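import Cfsg.Agent.H865.ListGroup
import Cfsg.Agent.SporadicStructure.TrioInv
import Cfsg.Agent.SporadicStructure.SextetAction
import Cfsg.Agent.SporadicStructure.GolayCnt
import Cfsg.Agent.H865.ThreeClasses
set_option linter.all false

-- part: H865/FixCount
section
/-!
Counting the octads, dodecads, sextets and trios fixed by an explicit element of `Cfsg.M24`.
-/

set_option autoImplicit false

namespace Cfsg.Agent.H865.FixCount

open Cfsg Cfsg.Agent.SporadicA.GolayBase Cfsg.Agent.SporadicA.GolayPerm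
open Cfsg.Agent.SporadicStructure.M24El Cfsg.Agent.SporadicStructure.TrioCert
open Cfsg.Agent.SporadicStructure.SextetAction
open Cfsg.Agent.SporadicStructure.Sextet (sextetOf mem_sextetOf self_mem_sextetOf)
open Cfsg.Agent.SporadicStructure
open scoped Pointwise

/-- Fixed members of an invariant family, for conjugate elements. -/
theorem ncard_transport {α : Type*} [MulAction (Equiv.Perm GolayPt) α] (F : Set α)
    (hF : ∀ k ∈ M24, ∀ x ∈ F, k • x ∈ F) {g g' k : Equiv.Perm GolayPt} (hk : k ∈ M24)
    (h : k * g * k⁻¹ = g') :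
    {x | x ∈ F ∧ g • x = x}.ncard = {x | x ∈ F ∧ g' • x = x}.ncard := by
  have h1 : {x | x ∈ F ∧ g' • x = x} = (fun x => k • x) '' {x | x ∈ F ∧ g • x = x} := by
    ext x
    constructor
    · rintro ⟨hx, hgx⟩
      refine ⟨k⁻¹ • x, ⟨hF _ (M24.inv_mem hk) x hx, ?_⟩, smul_inv_smul k x⟩
      rw [← h, mul_smul, mul_smul] at hgx
      conv_rhs => rw [← hgx]
      rw [inv_smul_smul]
    · rintro ⟨y, ⟨hy, hgy⟩, rfl⟩
      refine ⟨hF _ hk y hy, ?_⟩
      show g' • k • y = k • y
      rw [← h, mul_smul, mul_smul, inv_smul_smul, hgy]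
  rw [h1, Set.ncard_image_of_injective _ (MulAction.injective k)]

theorem coe_smul_fin {P : ℕ} (h : ok P = true) (m : ℕ) :
    (el P : Equiv.Perm GolayPt) • fin m = fin (pimg P m) := by
  rw [← el_smul_fin h]
  rfl

theorem pimg_lt' {P : ℕ} (h : ok P = true) (m : ℕ) : pimg P m < 2 ^ 24 := pimg_lt (ok_iff.1 h).1 m

theorem coe_smul_fin_eq_iff {P : ℕ} (h : ok P = true) {m : ℕ} (hm : m < 2 ^ 24) :
    (el P : Equiv.Perm GolayPt) • fin m = fin m ↔ pimg P m = m := by
  rw [coe_smul_fin h]
  exact ⟨fun e => fin_injective (pimg_lt' h m) hm e, fun e => by rw [e]⟩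

/-- The number of words of weight `w` (as sets) fixed by `el P`. -/
theorem ncard_words {P : ℕ} (h : ok P = true) (w : ℕ) :
    {o : Finset GolayPt | o ∈ wordsOfWeight (golayCode : Set (GolayPt → ZMod 2)) w ∧
      (el P : Equiv.Perm GolayPt) • o = o}.ncard =
      GolayCnt.cnt 12 0 (fun i => Nat.beq (popcount (enc i)) w && Nat.beq (pimg P (enc i)) (enc i)) := by
  have h1 := GolayCnt.ncard_supports
    (fun s => s.card = w ∧ (el P : Equiv.Perm GolayPt) • s = s)
    (fun m => Nat.beq (popcount m) w && Nat.beq (pimg P m) m) (by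
      intro m hm
      rw [Bool.and_eq_true, Nat.beq_eq, Nat.beq_eq, coe_smul_fin_eq_iff h (isCode_lt hm), card_fin])
  rw [← h1]
  congr 1
  ext s
  show (s ∈ supports _ ∧ s.card = w) ∧ _ ↔ s ∈ supports _ ∧ s.card = w ∧ _
  rw [and_assoc]

/-! ### sextets -/

theorem fin_one_shift {i : ℕ} (hi : i < 24) : fin (1 <<< i) = {pt i} := by
  ext p
  rw [mem_fin, Finset.mem_singleton, Nat.one_shiftLeft, Nat.testBit_two_pow]
  rw [decide_eq_true_iff]
  constructor
  · rintro rfl
    rw [pt_idx]
  · rintro rfl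
    rw [idx_pt hi]

/-- the mask of three points and the last one -/
def msk (x y z : ℕ) : ℕ := (1 <<< x) ||| (1 <<< y) ||| (1 <<< z) ||| (1 <<< 23)

theorem fin_msk {x y z : ℕ} (hx : x < 24) (hy : y < 24) (hz : z < 24) :
    fin (msk x y z) = {pt x, pt y, pt z, pt 23} := by
  unfold msk
  rw [fin_or, fin_or, fin_or, fin_one_shift hx, fin_one_shift hy, fin_one_shift hz,
    fin_one_shift (by norm_num)]
  ext p
  simp only [Finset.mem_union, Finset.mem_insert, Finset.mem_singleton]
  tauto

theorem exists_sorted {t : Finset GolayPt} (h4 : t.card = 4) (hn : none ∈ t) :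
    ∃ x y z, x < y ∧ y < z ∧ z < 23 ∧ t = fin (msk x y z) := by
  have h3 : (t.erase none).card = 3 := by rw [Finset.card_erase_of_mem hn, h4]
  obtain ⟨a, b, c, hab, hac, hbc, he⟩ := Finset.card_eq_three.1 h3
  have hmem : ∀ p, p ∈ t ↔ p = none ∨ p = a ∨ p = b ∨ p = c := by
    intro p
    have h5 : p ∈ t.erase none ↔ p = a ∨ p = b ∨ p = c := by
      rw [he]; simp only [Finset.mem_insert, Finset.mem_singleton]
    rw [Finset.mem_erase] at h5
    constructor
    · intro hp
      by_cases h6 : p = none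
      · exact Or.inl h6
      · exact Or.inr (h5.1 ⟨h6, hp⟩)
    · rintro (h6 | h6)
      · rw [h6]; exact hn
      · exact (h5.2 h6).2
  have hne : ∀ p, (p = a ∨ p = b ∨ p = c) → idx p < 23 := by
    intro p hp
    have h5 : p ∈ t.erase none := by
      rw [he]; simpa only [Finset.mem_insert, Finset.mem_singleton] using hp
    have h6 := (Finset.mem_erase.1 h5).1
    have h7 := idx_lt p
    have h8 : idx p ≠ 23 := by
      intro h9
      apply h6
      rw [← pt_idx p, h9]
      rfl
    omega
  have ha := hne a (Or.inl rfl)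
  have hb := hne b (Or.inr (Or.inl rfl))
  have hc := hne c (Or.inr (Or.inr rfl))
  have iab : idx a ≠ idx b := fun h => hab (idx_injective h)
  have iac : idx a ≠ idx c := fun h => hac (idx_injective h)
  have ibc : idx b ≠ idx c := fun h => hbc (idx_injective h)
  have key : ∀ x y z : GolayPt, (∀ p, p = a ∨ p = b ∨ p = c ↔ p = x ∨ p = y ∨ p = z) →
      idx x < 23 → idx y < 23 → idx z < 23 → t = fin (msk (idx x) (idx y) (idx z)) := by
    intro x y z h hx hy hz
    rw [fin_msk (by omega) (by omega) (by omega), pt_idx, pt_idx, pt_idx]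
    ext p
    rw [hmem, h]
    simp only [Finset.mem_insert, Finset.mem_singleton]
    have h9 : (pt 23 : GolayPt) = none := rfl
    rw [h9]
    tauto
  rcases lt_or_gt_of_ne iab with h1 | h1 <;> rcases lt_or_gt_of_ne iac with h2 | h2 <;>
    rcases lt_or_gt_of_ne ibc with h5 | h5
  · exact ⟨_, _, _, h1, h5, hc, key a b c (fun p => Iff.rfl) ha hb hc⟩
  · exact ⟨_, _, _, h2, h5, hb, key a c b (fun p => by tauto) ha hc hb⟩
  · omega
  · exact ⟨_, _, _, h2, h1, hb, key c a b (fun p => by tauto) hc ha hb⟩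
  · exact ⟨_, _, _, h1, h2, hc, key b a c (fun p => by tauto) hb ha hc⟩
  · omega
  · exact ⟨_, _, _, h5, h2, ha, key b c a (fun p => by tauto) hb hc ha⟩
  · exact ⟨_, _, _, h5, h1, ha, key c b a (fun p => by tauto) hc hb ha⟩

/-- completeness check for a list of tetrads -/
def chkTet (P : ℕ) (LS : List ℕ) : Bool :=
  (List.range 23).all fun z => (List.range 23).all fun y => !(Nat.blt y z) ||
    (List.range 23).all fun x => !(Nat.blt x y) || (!(isCode (msk x y z ^^^ pimg P (msk x y z))) ||
      LS.any fun k => Nat.beq k (msk x y z))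

theorem chkTet_spec {P : ℕ} {LS : List ℕ} (h : chkTet P LS = true) {x y z : ℕ} (hxy : x < y)
    (hyz : y < z) (hz : z < 23) (hc : isCode (msk x y z ^^^ pimg P (msk x y z)) = true) :
    msk x y z ∈ LS := by
  unfold chkTet at h
  have h1 := List.all_eq_true.1 h z (List.mem_range.2 hz)
  have h2 := List.all_eq_true.1 h1 y (List.mem_range.2 (by omega))
  rw [Bool.or_eq_true] at h2
  have e1 : Nat.blt y z = true := Nat.blt_eq.mpr hyz
  rw [e1] at h2
  have h3 := List.all_eq_true.1 (h2.resolve_left (by decide)) x (List.mem_range.2 (by omega))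
  have e2 : Nat.blt x y = true := Nat.blt_eq.mpr hxy
  rw [Bool.or_eq_true, e2] at h3
  have h4 := h3.resolve_left (by decide)
  rw [Bool.or_eq_true, hc] at h4
  have h5 := h4.resolve_left (by decide)
  rw [List.any_eq_true] at h5
  obtain ⟨k, hk, h6⟩ := h5
  rw [Nat.beq_eq] at h6
  rwa [← h6]

/-- soundness check for a list of tetrads -/
def chkTet' (P : ℕ) (LS : List ℕ) : Bool := LS.all fun m => Nat.blt m 16777216 &&
  Nat.beq (popcount m) 4 && m.testBit 23 && isCode (m ^^^ pimg P m)

theorem ncard_sextets {P : ℕ} (hP : ok P = true) {LS : List ℕ} (h : chkTet P LS = true)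
    (h' : chkTet' P LS = true) (hn : LS.Nodup) :
    {S : Finset (Finset GolayPt) | S ∈ sextets ∧ (el P : Equiv.Perm GolayPt) • S = S}.ncard =
      LS.length := by
  have hM : (el P : Equiv.Perm GolayPt) ∈ M24 := (el P).2
  have hLS : ∀ m ∈ LS, m < 2 ^ 24 ∧ (fin m).card = 4 ∧ none ∈ fin m ∧
      symmDiff (fin m) ((el P : Equiv.Perm GolayPt) • fin m) ∈
        supports (golayCode : Set (GolayPt → ZMod 2)) := by
    intro m hm
    have h1 := List.all_eq_true.1 h' m hm
    simp only [Bool.and_eq_true] at h1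
    obtain ⟨⟨⟨h2, h3⟩, h4⟩, h5⟩ := h1
    have hm24 : m < 2 ^ 24 := Nat.blt_eq.mp h2
    refine ⟨hm24, by rw [card_fin]; exact Nat.eq_of_beq_eq_true h3, mem_fin.2 h4, ?_⟩
    rw [coe_smul_fin hP, ← fin_xor, fin_mem_supports_iff (Nat.xor_lt_two_pow hm24 (pimg_lt' hP _))]
    exact h5
  have h1 : {S : Finset (Finset GolayPt) | S ∈ sextets ∧ (el P : Equiv.Perm GolayPt) • S = S} =
      (fun m => sextetOf (fin m)) '' ((LS.toFinset : Finset ℕ) : Set ℕ) := by
    ext S
    constructor
    · rintro ⟨hS, hgS⟩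
      obtain ⟨t, htS, hnt⟩ := Sextet.exists_mem_of_sextet hS none
      have h4 := Sextet.card_tetrad hS htS
      have hgt : (el P : Equiv.Perm GolayPt) • t ∈ S := by
        have := Finset.smul_mem_smul_finset (a := (el P : Equiv.Perm GolayPt)) htS
        rwa [hgS] at this
      have hsym := symmDiff_mem hS htS hgt
      obtain ⟨x, y, z, hxy, hyz, hz, rfl⟩ := exists_sorted h4 hnt
      refine ⟨msk x y z, ?_, (eq_sextetOf hS htS).symm⟩
      rw [Finset.mem_coe, List.mem_toFinset]
      apply chkTet_spec h hxy hyz hz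
      rw [coe_smul_fin hP, ← fin_xor] at hsym
      have h6 : msk x y z < 2 ^ 24 := by
        unfold msk
        rw [Nat.one_shiftLeft, Nat.one_shiftLeft, Nat.one_shiftLeft, Nat.one_shiftLeft]
        refine Nat.or_lt_two_pow (Nat.or_lt_two_pow (Nat.or_lt_two_pow ?_ ?_) ?_) ?_ <;>
          exact Nat.pow_lt_pow_right (by norm_num) (by omega)
      rwa [fin_mem_supports_iff (Nat.xor_lt_two_pow h6 (pimg_lt' hP _))] at hsym
    · rintro ⟨m, hm, rfl⟩
      rw [Finset.mem_coe, List.mem_toFinset] at hm
      obtain ⟨-, h4, -, hs⟩ := hLS m hm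
      refine ⟨sextetOf_mem h4, ?_⟩
      show (el P : Equiv.Perm GolayPt) • sextetOf (fin m) = sextetOf (fin m)
      rw [smul_sextetOf hM h4]
      exact (sextetOf_eq h4 (by rw [Finset.card_smul_finset, h4]) hs).symm
  rw [h1, Set.InjOn.ncard_image, Set.ncard_coe_finset, List.toFinset_card_of_nodup hn]
  intro m hm m' hm' hmm
  rw [Finset.mem_coe, List.mem_toFinset] at hm hm'
  obtain ⟨l1, c1, n1, -⟩ := hLS m hm
  obtain ⟨l2, c2, n2, -⟩ := hLS m' hm'
  have hmm' : sextetOf (fin m) = sextetOf (fin m') := hmm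
  have e1 : fin m ∈ sextetOf (fin m') := by rw [← hmm']; exact self_mem_sextetOf _
  by_contra hne
  have hne' : fin m ≠ fin m' := fun e => hne (fin_injective l1 l2 e)
  have hd := Sextet.disjoint_of_mem (sextetOf_mem c2) e1 (self_mem_sextetOf _) hne'
  exact Finset.disjoint_left.1 hd n1 n2

/-! ### trios -/

theorem perm_cba {A B C : Prop} : (A ∨ B ∨ C) ↔ (C ∨ B ∨ A) := by tauto
theorem perm_bca {A B C : Prop} : (A ∨ B ∨ C) ↔ (B ∨ C ∨ A) := by tauto
theorem perm_bac {A B C : Prop} : (A ∨ B ∨ C) ↔ (B ∨ A ∨ C) := by tauto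
theorem perm_cab {A B C : Prop} : (A ∨ B ∨ C) ↔ (C ∨ A ∨ B) := by tauto
theorem perm_acb {A B C : Prop} : (A ∨ B ∨ C) ↔ (A ∨ C ∨ B) := by tauto

/-- Any trio covers the points. -/
theorem exists_mem_of_trio {T : Finset (Finset GolayPt)} (hT : T ∈ trios) (p : GolayPt) :
    ∃ o ∈ T, p ∈ o := by
  classical
  obtain ⟨h1, h2, h3⟩ := hT
  have h4 : (T.biUnion id).card = ∑ u ∈ T, (id u).card := by
    apply Finset.card_biUnion
    intro a ha b hb hab
    exact h3 a ha b hb hab
  have h5 : ∑ u ∈ T, (id u).card = ∑ u ∈ T, 8 := by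
    apply Finset.sum_congr rfl
    intro u hu
    exact (h2 u hu).2
  rw [h5, Finset.sum_const, h1] at h4
  have h6 : T.biUnion id = Finset.univ := by
    apply Finset.eq_univ_of_card
    rw [h4]
    decide +kernel
  have h7 : p ∈ T.biUnion id := by rw [h6]; exact Finset.mem_univ p
  rw [Finset.mem_biUnion] at h7
  exact h7

/-- An element of order dividing 3 fixing a family of three sets fixes each or permutes them
cyclically. -/
theorem dichotomy {T : Finset (Finset GolayPt)} (hT : T.card = 3) {g : Equiv.Perm GolayPt}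
    (hg : g * g * g = 1) (hgT : g • T = T) {o : Finset GolayPt} (ho : o ∈ T) :
    g • o = o ∨ (g • o ≠ o ∧ g • g • o ≠ o ∧ g • g • o ≠ g • o ∧ T = {o, g • o, g • g • o}) := by
  by_cases h : g • o = o
  · exact Or.inl h
  · right
    have h3 : g • g • g • o = o := by
      rw [smul_smul, smul_smul, hg, one_smul]
    have hm : ∀ x ∈ T, g • x ∈ T := by
      intro x hx
      have := Finset.smul_mem_smul_finset (a := g) hx
      rwa [hgT] at this
    have h1 : g • g • o ≠ o := by
      intro h4
      rw [h4] at h3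
      exact h h3
    have h2 : g • g • o ≠ g • o := fun h4 => h (MulAction.injective g h4)
    refine ⟨h, h1, h2, ?_⟩
    symm
    apply Finset.eq_of_subset_of_card_le
    · intro x hx
      rw [Finset.mem_insert, Finset.mem_insert, Finset.mem_singleton] at hx
      rcases hx with rfl | rfl | rfl
      · exact ho
      · exact hm _ ho
      · exact hm _ (hm _ ho)
    · rw [hT, Finset.card_insert_of_notMem, Finset.card_pair (Ne.symm h2)]
      rw [Finset.mem_insert, Finset.mem_singleton]
      push Not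
      exact ⟨Ne.symm h, Ne.symm h1⟩

theorem el_cube {P : ℕ} (hP : ok P = true) (h3 : pcomp (pcomp P P) P = idP) :
    (el P : Equiv.Perm GolayPt) * (el P : Equiv.Perm GolayPt) * (el P : Equiv.Perm GolayPt) = 1 := by
  have h : el P * el P * el P = 1 := by
    rw [← el_pcomp hP hP, ← el_pcomp (ok_pcomp hP hP) hP, h3, el_idP]
  exact congrArg Subtype.val h

/-- trios fixed by an element of order 3 moving all octads -/
theorem ncard_trios_of_free {P : ℕ} (hP : ok P = true) (h3 : pcomp (pcomp P P) P = idP)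
    (hfree : ∀ i, i < 2 ^ 12 → (!(Nat.beq (popcount (enc i)) 8) ||
      !(Nat.beq (pimg P (enc i)) (enc i))) = true) :
    {T : Finset (Finset GolayPt) | T ∈ trios ∧ (el P : Equiv.Perm GolayPt) • T = T}.ncard =
      GolayCnt.cnt 12 0 (fun i => Nat.beq (popcount (enc i)) 8 && (enc i).testBit 23 &&
        Nat.beq ((enc i) &&& (pimg P (enc i))) 0) := by
  set g : Equiv.Perm GolayPt := (el P : Equiv.Perm GolayPt) with hgdef
  have hM : g ∈ M24 := (el P).2
  have hg3 : g * g * g = 1 := el_cube hP h3
  have hno : ∀ o ∈ octads, g • o ≠ o := by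
    intro o ho h
    rw [mem_octads_iff] at ho
    obtain ⟨i, hi, h4⟩ := isCode_iff_exists.1 ho.1
    have h5 := hfree i hi
    rw [Bool.or_eq_true, ← h4, ho.2] at h5
    have h6 := h5.resolve_left (by decide)
    rw [← fin_maskOf o, coe_smul_fin_eq_iff hP (maskOf_lt o)] at h
    rw [h, Nat.beq_refl] at h6
    exact absurd h6 (by decide)
  have h1 := GolayCnt.ncard_supports
    (fun s => s.card = 8 ∧ none ∈ s ∧ s ∩ g • s = ∅)
    (fun m => Nat.beq (popcount m) 8 && m.testBit 23 && Nat.beq (m &&& (pimg P m)) 0) (by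
      intro m hm
      rw [Bool.and_eq_true, Bool.and_eq_true, Nat.beq_eq, Nat.beq_eq, card_fin, coe_smul_fin hP,
        ← fin_and, and_assoc]
      have e1 : (none : GolayPt) ∈ fin m ↔ m.testBit 23 = true := mem_fin
      have e2 : fin (m &&& pimg P m) = ∅ ↔ m &&& pimg P m = 0 := by
        rw [← TrioInv.fin_zero]
        constructor
        · intro h
          exact fin_injective (lt_of_le_of_lt Nat.and_le_left (isCode_lt hm)) (by norm_num) h
        · intro h
          rw [h]
      rw [e1, e2])
  rw [← h1]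
  have h2 : {T : Finset (Finset GolayPt) | T ∈ trios ∧ g • T = T} =
      (fun o : Finset GolayPt => ({o, g • o, g • g • o} : Finset (Finset GolayPt))) ''
        {s : Finset GolayPt | s ∈ supports (golayCode : Set (GolayPt → ZMod 2)) ∧
          (s.card = 8 ∧ none ∈ s ∧ s ∩ g • s = ∅)} := by
    ext T
    constructor
    · rintro ⟨hT, hgT⟩
      obtain ⟨o, ho, hn⟩ := exists_mem_of_trio hT none
      have hoo := hT.2.1 o ho
      rcases dichotomy hT.1 hg3 hgT ho with h | ⟨h, -, -, h4⟩
      · exact absurd h (hno o hoo)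
      · refine ⟨o, ⟨hoo.1, hoo.2, hn, ?_⟩, h4.symm⟩
        rw [← Finset.disjoint_iff_inter_eq_empty]
        apply hT.2.2 o ho (g • o) _ (Ne.symm h)
        rw [h4]
        simp
    · rintro ⟨o, ⟨ho, h8, hn, hd⟩, rfl⟩
      have hoo : o ∈ octads := ⟨ho, h8⟩
      have d1 : Disjoint o (g • o) := Finset.disjoint_iff_inter_eq_empty.2 hd
      have d2 : Disjoint (g • o) (g • g • o) := (TrioInv.disjoint_smul_iff g _ _).2 d1
      have e3 : g • g • g • o = o := by
        rw [smul_smul, smul_smul, hg3, one_smul]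
      have d3 : Disjoint (g • g • o) o := by
        have := (TrioInv.disjoint_smul_iff g _ _).2 d2
        rwa [e3] at this
      have n1 : g • o ≠ o := hno o hoo
      have n2 : g • g • o ≠ g • o := fun h => n1 (MulAction.injective g h)
      have n3 : g • g • o ≠ o := by
        intro h
        rw [h] at e3
        exact n1 e3
      refine ⟨⟨?_, ?_, ?_⟩, ?_⟩
      · rw [Finset.card_insert_of_notMem, Finset.card_pair (Ne.symm n2)]
        rw [Finset.mem_insert, Finset.mem_singleton]
        push Not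
        exact ⟨Ne.symm n1, Ne.symm n3⟩
      · intro x hx
        rw [Finset.mem_insert, Finset.mem_insert, Finset.mem_singleton] at hx
        rcases hx with hx | hx | hx
        · rw [hx]; exact hoo
        · rw [hx]; exact (smul_mem_octads hM).2 hoo
        · rw [hx]; exact (smul_mem_octads hM).2 ((smul_mem_octads hM).2 hoo)
      · intro x hx y hy hxy
        rw [Finset.mem_insert, Finset.mem_insert, Finset.mem_singleton] at hx hy
        rcases hx with hx | hx | hx <;> rcases hy with hy | hy | hy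
        · exact absurd (hx.trans hy.symm) hxy
        · rw [hx, hy]; exact d1
        · rw [hx, hy]; exact d3.symm
        · rw [hx, hy]; exact d1.symm
        · exact absurd (hx.trans hy.symm) hxy
        · rw [hx, hy]; exact d2
        · rw [hx, hy]; exact d3
        · rw [hx, hy]; exact d2.symm
        · exact absurd (hx.trans hy.symm) hxy
      · show g • ({o, g • o, g • g • o} : Finset (Finset GolayPt)) = {o, g • o, g • g • o}
        rw [Finset.smul_finset_insert, Finset.smul_finset_insert, Finset.smul_finset_singleton, e3]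
        ext x
        simp only [Finset.mem_insert, Finset.mem_singleton]
        exact perm_cab
  rw [h2, Set.InjOn.ncard_image]
  rintro o ⟨ho, h8, hn, hd⟩ o' ⟨ho', h8', hn', hd'⟩ h
  have h' : ({o, g • o, g • g • o} : Finset (Finset GolayPt)) = {o', g • o', g • g • o'} := h
  have h4 : o ∈ ({o, g • o, g • g • o} : Finset (Finset GolayPt)) := Finset.mem_insert_self _ _
  rw [h', Finset.mem_insert, Finset.mem_insert, Finset.mem_singleton] at h4
  rcases h4 with h4 | h4 | h4
  · exact h4
  · exfalso
    have : (none : GolayPt) ∈ o' ∩ g • o' := Finset.mem_inter.2 ⟨hn', by rw [← h4]; exact hn⟩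
    rw [hd'] at this
    exact absurd this (Finset.notMem_empty _)
  · exfalso
    have e3 : g • o = o' := by
      rw [h4, smul_smul, smul_smul, hg3, one_smul]
    have : (none : GolayPt) ∈ o ∩ g • o := Finset.mem_inter.2 ⟨hn, by rw [e3]; exact hn'⟩
    rw [hd] at this
    exact absurd this (Finset.notMem_empty _)

/-- sorted form of a trio -/
theorem exists_tri {T : Finset (Finset GolayPt)} (hT : T ∈ trios) :
    ∃ a b c, a < 2 ^ 24 ∧ b < a ∧ c < b ∧ T = tri a b c := by
  obtain ⟨hc, ho, hd⟩ := hT
  obtain ⟨o1, o2, o3, n12, n13, n23, rfl⟩ := Finset.card_eq_three.1 hc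
  have i12 : maskOf o1 ≠ maskOf o2 := fun h => n12 (maskOf_injective h)
  have i13 : maskOf o1 ≠ maskOf o3 := fun h => n13 (maskOf_injective h)
  have i23 : maskOf o2 ≠ maskOf o3 := fun h => n23 (maskOf_injective h)
  have key : ∀ x y z : Finset GolayPt, (∀ p, p = o1 ∨ p = o2 ∨ p = o3 ↔ p = x ∨ p = y ∨ p = z) →
      ({o1, o2, o3} : Finset (Finset GolayPt)) = tri (maskOf x) (maskOf y) (maskOf z) := by
    intro x y z h
    unfold tri
    rw [fin_maskOf, fin_maskOf, fin_maskOf]
    ext p
    simp only [Finset.mem_insert, Finset.mem_singleton]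
    exact h p
  rcases lt_or_gt_of_ne i12 with h1 | h1 <;> rcases lt_or_gt_of_ne i13 with h2 | h2 <;>
    rcases lt_or_gt_of_ne i23 with h5 | h5
  · exact ⟨_, _, _, maskOf_lt _, h5, h1, key o3 o2 o1 (fun p => perm_cba)⟩
  · exact ⟨_, _, _, maskOf_lt _, h5, h2, key o2 o3 o1 (fun p => perm_bca)⟩
  · omega
  · exact ⟨_, _, _, maskOf_lt _, h1, h2, key o2 o1 o3 (fun p => perm_bac)⟩
  · exact ⟨_, _, _, maskOf_lt _, h2, h1, key o3 o1 o2 (fun p => perm_cab)⟩
  · omega
  · exact ⟨_, _, _, maskOf_lt _, h2, h5, key o1 o3 o2 (fun p => perm_acb)⟩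
  · exact ⟨_, _, _, maskOf_lt _, h1, h5, key o1 o2 o3 (fun p => Iff.rfl)⟩

/-- check for the list of trios all of whose members lie in the list `FA` -/
def chkTrio (FA : List ℕ) (LT : List (ℕ × ℕ × ℕ)) : Bool :=
  FA.all fun a => FA.all fun b => !(Nat.blt b a) || !(Nat.beq (a &&& b) 0) ||
    FA.all fun c => !(Nat.blt c b) || !(Nat.beq (a &&& c) 0) || !(Nat.beq (b &&& c) 0) ||
      LT.any fun t => Nat.beq t.1 a && Nat.beq t.2.1 b && Nat.beq t.2.2 c

/-- soundness check -/
def chkTrio' (P : ℕ) (LT : List (ℕ × ℕ × ℕ)) : Bool :=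
  LT.all fun t => Nat.blt t.1 16777216 && Nat.blt t.2.1 t.1 && Nat.blt t.2.2 t.2.1 &&
    (isCode t.1 && isCode t.2.1 && isCode t.2.2 && Nat.beq (popcount t.1) 8 &&
      Nat.beq (popcount t.2.1) 8 && Nat.beq (popcount t.2.2) 8 && Nat.beq (Nat.land t.1 t.2.1) 0 &&
      Nat.beq (Nat.land t.1 t.2.2) 0 && Nat.beq (Nat.land t.2.1 t.2.2) 0) &&
    (Nat.beq (pimg P t.1) t.1 && Nat.beq (pimg P t.2.1) t.2.1 && Nat.beq (pimg P t.2.2) t.2.2)

theorem disjoint_fin_iff {a b : ℕ} (ha : a < 2 ^ 24) :
    Disjoint (fin a) (fin b) ↔ a &&& b = 0 := by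
  rw [Finset.disjoint_iff_inter_eq_empty, ← fin_and, ← TrioInv.fin_zero]
  constructor
  · intro h
    exact fin_injective (lt_of_le_of_lt Nat.and_le_left ha) (by norm_num) h
  · intro h
    rw [h]

/-- trios fixed by an element of order 3 with a fixed point -/
theorem ncard_trios_of_fix {P : ℕ} (hP : ok P = true) (h3 : pcomp (pcomp P P) P = idP)
    {q : GolayPt} (hq : (el P : Equiv.Perm GolayPt) q = q) {FA : List ℕ} {LT : List (ℕ × ℕ × ℕ)}
    (hFA : ∀ i, i < 2 ^ 12 → (!(Nat.beq (popcount (enc i)) 8) ||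
      !(Nat.beq (pimg P (enc i)) (enc i)) || FA.any fun k => Nat.beq k (enc i)) = true)
    (hc : chkTrio FA LT = true) (hc' : chkTrio' P LT = true) (hn : LT.Nodup) :
    {T : Finset (Finset GolayPt) | T ∈ trios ∧ (el P : Equiv.Perm GolayPt) • T = T}.ncard =
      LT.length := by
  set g : Equiv.Perm GolayPt := (el P : Equiv.Perm GolayPt) with hgdef
  have hM : g ∈ M24 := (el P).2
  have hg3 : g * g * g = 1 := el_cube hP h3
  have hmem : ∀ m, m < 2 ^ 24 → fin m ∈ octads → g • fin m = fin m → m ∈ FA := by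
    intro m hm ho h
    rw [fin_mem_octads_iff hm] at ho
    obtain ⟨i, hi, h4⟩ := isCode_iff_exists.1 ho.1
    have h5 := hFA i hi
    rw [coe_smul_fin_eq_iff hP hm] at h
    rw [Bool.or_eq_true, Bool.or_eq_true, ← h4, ho.2, h, Nat.beq_refl 8, Nat.beq_refl m] at h5
    rcases h5 with (h5 | h5) | h5
    · exact absurd h5 (by decide)
    · exact absurd h5 (by decide)
    · rw [List.any_eq_true] at h5
      obtain ⟨k, hk, h6⟩ := h5
      rw [Nat.beq_eq] at h6
      rwa [← h6]
  have h2 : {T : Finset (Finset GolayPt) | T ∈ trios ∧ g • T = T} =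
      (fun t : ℕ × ℕ × ℕ => tri t.1 t.2.1 t.2.2) '' ((LT.toFinset : Finset (ℕ × ℕ × ℕ)) :
        Set (ℕ × ℕ × ℕ)) := by
    ext T
    constructor
    · rintro ⟨hT, hgT⟩
      -- every member is fixed
      have hfix : ∀ o ∈ T, g • o = o := by
        obtain ⟨o1, ho1, hq1⟩ := exists_mem_of_trio hT q
        have h1 : g • o1 = o1 := by
          by_contra hne
          have h4 : g • o1 ∈ T := by
            have := Finset.smul_mem_smul_finset (a := g) ho1
            rwa [hgT] at this
          have h5 : q ∈ g • o1 := by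
            have := Finset.smul_mem_smul_finset (a := g) hq1
            rwa [show g • q = q from hq] at this
          exact Finset.disjoint_left.1 (hT.2.2 _ h4 _ ho1 hne) h5 hq1
        intro o ho
        rcases dichotomy hT.1 hg3 hgT ho with h | ⟨h, -, -, h4⟩
        · exact h
        · exfalso
          rw [h4, Finset.mem_insert, Finset.mem_insert, Finset.mem_singleton] at ho1
          rcases ho1 with ho1 | ho1 | ho1
          · rw [ho1] at h1; exact h h1
          · rw [ho1] at h1; exact h (MulAction.injective g h1)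
          · rw [ho1] at h1; exact h (MulAction.injective g (MulAction.injective g h1))
      obtain ⟨a, b, c, ha, hb, hcc, rfl⟩ := exists_tri hT
      have ma : fin a ∈ tri a b c := by unfold tri; simp
      have mb : fin b ∈ tri a b c := by unfold tri; simp
      have mc : fin c ∈ tri a b c := by unfold tri; simp
      have ka := hmem a ha (hT.2.1 _ ma) (hfix _ ma)
      have kb := hmem b (by omega) (hT.2.1 _ mb) (hfix _ mb)
      have kc := hmem c (by omega) (hT.2.1 _ mc) (hfix _ mc)
      have nab : fin a ≠ fin b := fun h => by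
        have := fin_injective ha (by omega) h
        omega
      have nac : fin a ≠ fin c := fun h => by
        have := fin_injective ha (by omega) h
        omega
      have nbc : fin b ≠ fin c := fun h => by
        have := fin_injective (by omega) (by omega) h
        omega
      have dab := (disjoint_fin_iff ha).1 (hT.2.2 _ ma _ mb nab)
      have dac := (disjoint_fin_iff ha).1 (hT.2.2 _ ma _ mc nac)
      have dbc := (disjoint_fin_iff (by omega)).1 (hT.2.2 _ mb _ mc nbc)
      unfold chkTrio at hc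
      have h5 := List.all_eq_true.1 (List.all_eq_true.1 hc a ka) b kb
      have e1 : Nat.blt b a = true := Nat.blt_eq.mpr hb
      rw [e1, dab, Bool.or_eq_true, Bool.or_eq_true] at h5
      rcases h5 with (h5 | h5) | h5
      · exact absurd h5 (by decide)
      · exact absurd h5 (by decide)
      · have h6 := List.all_eq_true.1 h5 c kc
        have e2 : Nat.blt c b = true := Nat.blt_eq.mpr hcc
        rw [e2, dac, dbc, Bool.or_eq_true, Bool.or_eq_true, Bool.or_eq_true] at h6
        rcases h6 with ((h6 | h6) | h6) | h6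
        · exact absurd h6 (by decide)
        · exact absurd h6 (by decide)
        · exact absurd h6 (by decide)
        · rw [List.any_eq_true] at h6
          obtain ⟨⟨a', b', c'⟩, hk, h7⟩ := h6
          simp only [Bool.and_eq_true, Nat.beq_eq] at h7
          obtain ⟨⟨rfl, rfl⟩, rfl⟩ := h7
          exact ⟨(a', b', c'), by rw [Finset.mem_coe, List.mem_toFinset]; exact hk, rfl⟩
    · rintro ⟨⟨a, b, c⟩, hk, rfl⟩
      rw [Finset.mem_coe, List.mem_toFinset] at hk
      have h5 := List.all_eq_true.1 hc' _ hk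
      rw [Bool.and_eq_true, Bool.and_eq_true, Bool.and_eq_true, Bool.and_eq_true] at h5
      obtain ⟨⟨⟨⟨l1, l2⟩, l3⟩, h6⟩, h7⟩ := h5
      have l1' : a < 2 ^ 24 := Nat.blt_eq.mp l1
      have l2' : b < a := Nat.blt_eq.mp l2
      have l3' : c < b := Nat.blt_eq.mp l3
      refine ⟨TrioInv.tri_mem_trios l1' l2' l3' h6, ?_⟩
      simp only [Bool.and_eq_true, Nat.beq_eq] at h7
      show g • tri a b c = tri a b c
      unfold tri
      rw [Finset.smul_finset_insert, Finset.smul_finset_insert, Finset.smul_finset_singleton,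
        coe_smul_fin hP, coe_smul_fin hP, coe_smul_fin hP, h7.1.1, h7.1.2, h7.2]
  rw [h2, Set.InjOn.ncard_image, Set.ncard_coe_finset, List.toFinset_card_of_nodup hn]
  rintro ⟨a, b, c⟩ h ⟨a', b', c'⟩ h' heq
  rw [Finset.mem_coe, List.mem_toFinset] at h h'
  have ord : ∀ x y z, (x, y, z) ∈ LT → x < 2 ^ 24 ∧ y < x ∧ z < y ∧ z = third x y := by
    intro x y z hk
    have h5 := List.all_eq_true.1 hc' _ hk
    rw [Bool.and_eq_true, Bool.and_eq_true, Bool.and_eq_true, Bool.and_eq_true] at h5
    obtain ⟨⟨⟨⟨l1, l2⟩, l3⟩, h6⟩, h7⟩ := h5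
    have l1' : x < 2 ^ 24 := Nat.blt_eq.mp l1
    have l2' : y < x := Nat.blt_eq.mp l2
    have l3' : z < y := Nat.blt_eq.mp l3
    refine ⟨l1', l2', l3', ?_⟩
    -- the third mask is determined
    have hT := TrioInv.tri_mem_trios l1' l2' l3' h6
    apply Nat.eq_of_testBit_eq
    intro i
    unfold third
    by_cases hi : i < 24
    · obtain ⟨o, ho, hp⟩ := exists_mem_of_trio hT (pt i)
      simp only [Bool.and_eq_true, Nat.beq_eq] at h6
      obtain ⟨⟨⟨-, d1⟩, d2⟩, d3⟩ := h6
      have t1 : (x &&& y).testBit i = false := by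
        rw [show x &&& y = 0 from d1, Nat.zero_testBit]
      have t2 : (x &&& z).testBit i = false := by
        rw [show x &&& z = 0 from d2, Nat.zero_testBit]
      have t3 : (y &&& z).testBit i = false := by
        rw [show y &&& z = 0 from d3, Nat.zero_testBit]
      rw [Nat.testBit_and] at t1 t2 t3
      have e1 : (Nat.xor (Nat.xor x y) 16777215).testBit i =
          ((x.testBit i ^^ y.testBit i) ^^ true) := by
        show ((x ^^^ y) ^^^ 16777215).testBit i = _
        rw [Nat.testBit_xor, Nat.testBit_xor, show 16777215 = 2 ^ 24 - 1 by norm_num,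
          Nat.testBit_two_pow_sub_one, decide_eq_true hi]
      rw [e1]
      unfold tri at ho
      simp only [Finset.mem_insert, Finset.mem_singleton] at ho
      rcases ho with rfl | rfl | rfl <;> rw [mem_fin, idx_pt hi] at hp <;>
        revert t1 t2 t3 hp <;>
        cases x.testBit i <;> cases y.testBit i <;> cases z.testBit i <;> decide
    · have hz : z < 2 ^ i := lt_of_lt_of_le (by omega : z < 2 ^ 24)
        (Nat.pow_le_pow_right (by norm_num) (by omega))
      have hx : (Nat.xor (Nat.xor x y) 16777215) < 2 ^ i := by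
        refine lt_of_lt_of_le (Nat.xor_lt_two_pow (Nat.xor_lt_two_pow l1' (by omega)) (by norm_num)) ?_
        exact Nat.pow_le_pow_right (by norm_num) (by omega)
      rw [Nat.testBit_lt_two_pow hz, Nat.testBit_lt_two_pow hx]
  obtain ⟨p1, p2, p3, p4⟩ := ord a b c h
  obtain ⟨q1, q2, q3, q4⟩ := ord a' b' c' h'
  obtain ⟨r1, r2⟩ := tri_injective p1 p2 p3 q1 q2 q3 heq
  rw [p4, q4, r1, r2]

end Cfsg.Agent.H865.FixCount
end

-- part: H865/ThreeCounts
section
/-!
The numbers of octads, trios, sextets and dodecads fixed by the elements of order 3 of `Cfsg.M24`.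
-/

set_option autoImplicit false

namespace Cfsg.Agent.H865.ThreeCounts

open Cfsg Cfsg.Agent.SporadicA.GolayBase Cfsg.Agent.SporadicA.GolayPerm
open Cfsg.Agent.SporadicStructure.M24El Cfsg.Agent.H865.Three
open Cfsg.Agent.H865.FixCount Cfsg.Agent.SporadicStructure
open scoped Pointwise

/-- tetrads of the sextets fixed by `A` -/
def sextA : List ℕ := [
  8552449, 8400898, 8654850, 8916994, 8658946, 8921090, 9175042, 8389132, 12583056, 9439264,
  10551360, 8406272, 8663040, 8925184, 9179136, 9183232]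

/-- tetrads of the sextets fixed by `B` -/
def sextB : List ℕ := [
  9437196, 8650788, 8391172, 8389160, 8652808, 9439264, 9699840]

/-- octads fixed by `A` -/
def octA : List ℕ := [
  9347075, 2854977, 10825794, 4370577, 13373586, 6889680, 430605, 8925710, 2949708, 4465308,
  9204992, 185603, 2704706, 4220306, 280334, 9607201, 1849378, 12126304, 13641904, 9701932,
  9456930]

/-- trios fixed by `A` -/
def trioA : List (ℕ × ℕ × ℕ) := [
  (9607201, 6889680, 280334), (9607201, 4465308, 2704706), (9607201, 4220306, 2949708),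
  (12126304, 4370577, 280334), (12126304, 4465308, 185603), (12126304, 4220306, 430605),
  (13641904, 2854977, 280334), (13641904, 2949708, 185603), (13641904, 2704706, 430605),
  (9701932, 4370577, 2704706), (9701932, 6889680, 185603), (9701932, 4220306, 2854977),
  (9456930, 4370577, 2949708), (9456930, 6889680, 430605), (9456930, 4465308, 2854977)]

theorem ncard_octads_A : {o : Finset GolayPt | o ∈ octads ∧
    (el A : Equiv.Perm GolayPt) • o = o}.ncard = 21 := by
  have h := ncard_words okA 8
  have h2 : GolayCnt.cnt 12 0 (fun i => Nat.beq (popcount (enc i)) 8 &&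
      Nat.beq (pimg A (enc i)) (enc i)) = 21 := by decide +kernel
  rw [h2] at h
  exact h

theorem ncard_dodecads_A : {o : Finset GolayPt | o ∈ dodecads ∧
    (el A : Equiv.Perm GolayPt) • o = o}.ncard = 20 := by
  have h := ncard_words okA 12
  have h2 : GolayCnt.cnt 12 0 (fun i => Nat.beq (popcount (enc i)) 12 &&
      Nat.beq (pimg A (enc i)) (enc i)) = 20 := by decide +kernel
  rw [h2] at h
  exact h

theorem ncard_sextets_A : {S : Finset (Finset GolayPt) | S ∈ sextets ∧
    (el A : Equiv.Perm GolayPt) • S = S}.ncard = 16 :=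
  ncard_sextets okA (LS := sextA) (by decide +kernel) (by decide +kernel) (by decide +kernel)

theorem ncard_sextets_B : {S : Finset (Finset GolayPt) | S ∈ sextets ∧
    (el B : Equiv.Perm GolayPt) • S = S}.ncard = 7 :=
  ncard_sextets okB (LS := sextB) (by decide +kernel) (by decide +kernel) (by decide +kernel)

theorem cubeA : pcomp (pcomp A A) A = idP := by decide +kernel

theorem cubeB : pcomp (pcomp B B) B = idP := by decide +kernel

theorem fix_A : (el A : Equiv.Perm GolayPt) none = none :=
  (ThreeClasses.fx_el okA none).2 (by decide +kernel)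

theorem ncard_trios_A : {T : Finset (Finset GolayPt) | T ∈ trios ∧
    (el A : Equiv.Perm GolayPt) • T = T}.ncard = 15 :=
  ncard_trios_of_fix okA cubeA fix_A (FA := octA) (LT := trioA)
    (allR_zero_spec (by decide +kernel)) (by decide +kernel) (by decide +kernel)
    (by decide +kernel)

theorem ncard_trios_B : {T : Finset (Finset GolayPt) | T ∈ trios ∧
    (el B : Equiv.Perm GolayPt) • T = T}.ncard = 15 := by
  rw [ncard_trios_of_free okB cubeB (allR_zero_spec (by decide +kernel))]
  decide +kernel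

theorem smul_mem_octads' : ∀ k ∈ M24, ∀ x ∈ octads, k • x ∈ octads :=
  fun _ hk _ hx => (smul_mem_octads hk).2 hx

theorem smul_mem_dodecads' : ∀ k ∈ M24, ∀ x ∈ dodecads, k • x ∈ dodecads :=
  fun _ hk _ hx => (smul_mem_dodecads hk).2 hx

theorem smul_mem_sextets' : ∀ k ∈ M24, ∀ x ∈ sextets, k • x ∈ sextets :=
  fun _ hk _ hx => SextetAction.smul_mem_sextets hk hx

theorem smul_mem_trios' : ∀ k ∈ M24, ∀ x ∈ trios, k • x ∈ trios :=
  fun _ hk _ hx => TrioInv.smul_mem_trios hk hx

theorem conj_cases {g : Equiv.Perm GolayPt} (hg : g ∈ M24) (h₃ : orderOf g = 3) :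
    ∃ k ∈ M24, k * g * k⁻¹ = (el A : Equiv.Perm GolayPt) ∨
      k * g * k⁻¹ = (el B : Equiv.Perm GolayPt) := by
  obtain ⟨k, hk⟩ := conj_of_orderOf (g := ⟨g, hg⟩) (by rw [Subgroup.orderOf_mk, h₃])
  refine ⟨k, k.2, ?_⟩
  rcases hk with hk | hk
  · left; exact congrArg Subtype.val hk
  · right; exact congrArg Subtype.val hk

theorem card_fix_conj (k g : Equiv.Perm GolayPt) :
    (Finset.univ.filter fun p => (k * g * k⁻¹) p = p).card =
      (Finset.univ.filter fun p => g p = p).card := by
  symm
  apply Finset.card_bij (fun p _ => k p)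
  · intro p hp
    rw [Finset.mem_filter] at hp ⊢
    refine ⟨Finset.mem_univ _, ?_⟩
    have h2 : k⁻¹ (k p) = p := Equiv.symm_apply_apply _ _
    rw [Equiv.Perm.mul_apply, Equiv.Perm.mul_apply, h2, hp.2]
  · intro p _ q _ h
    exact k.injective h
  · intro p hp
    rw [Finset.mem_filter] at hp
    refine ⟨k⁻¹ p, ?_, Equiv.apply_symm_apply _ _⟩
    rw [Finset.mem_filter]
    refine ⟨Finset.mem_univ _, ?_⟩
    have h1 := hp.2
    rw [Equiv.Perm.mul_apply, Equiv.Perm.mul_apply] at h1
    rw [Equiv.Perm.eq_inv_iff_eq]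
    exact h1

theorem card_fix_A : (Finset.univ.filter fun p => (el A : Equiv.Perm GolayPt) p = p).card = 6 := by
  have h : (Finset.univ.filter fun p => (el A : Equiv.Perm GolayPt) p = p) =
      (Finset.univ.filter fun p : GolayPt => papp A (idx p) = idx p) := by
    apply Finset.filter_congr
    intro p _
    exact ThreeClasses.fx_el okA p
  rw [h]
  decide +kernel

theorem card_fix_B : (Finset.univ.filter fun p => (el B : Equiv.Perm GolayPt) p = p).card = 0 := by
  have h : (Finset.univ.filter fun p => (el B : Equiv.Perm GolayPt) p = p) =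
      (Finset.univ.filter fun p : GolayPt => papp B (idx p) = idx p) := by
    apply Finset.filter_congr
    intro p _
    exact ThreeClasses.fx_el okB p
  rw [h]
  decide +kernel

theorem six {g : Equiv.Perm GolayPt} (hg : g ∈ M24) (h₃ : orderOf g = 3)
    (h₆ : (Finset.univ.filter fun p => g p = p).card = 6) :
    ∃ k ∈ M24, k * g * k⁻¹ = (el A : Equiv.Perm GolayPt) := by
  obtain ⟨k, hk, h | h⟩ := conj_cases hg h₃
  · exact ⟨k, hk, h⟩
  · exfalso
    rw [← card_fix_conj k g, h, card_fix_B] at h₆
    exact absurd h₆ (by norm_num)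

theorem free {g : Equiv.Perm GolayPt} (hg : g ∈ M24) (h₃ : orderOf g = 3)
    (h₀ : ∀ p, g p ≠ p) :
    ∃ k ∈ M24, k * g * k⁻¹ = (el B : Equiv.Perm GolayPt) := by
  obtain ⟨k, hk, h | h⟩ := conj_cases hg h₃
  · exfalso
    have h1 : (Finset.univ.filter fun p => g p = p).card = 0 := by
      rw [Finset.card_eq_zero, Finset.filter_eq_empty_iff]
      intro p _
      exact h₀ p
    rw [← card_fix_conj k g, h, card_fix_A] at h1
    exact absurd h1 (by norm_num)
  · exact ⟨k, hk, h⟩

end Cfsg.Agent.H865.ThreeCounts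
end
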