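import Cfsg.Agent.SporadicStructure.M24El
set_option linter.all false

/-!
Lists of packed elements of `Cfsg.M24` forming a subgroup, and its order.
-/

set_option autoImplicit false

namespace Cfsg.Agent.H865.ListGroup

open Cfsg Cfsg.Agent.SporadicA.GolayBase Cfsg.Agent.SporadicA.GolayPerm
open Cfsg.Agent.SporadicStructure.M24El
open scoped Pointwise

theorem papp_of_el_eq {P Q : ℕ} (hP : ok P = true) (hQ : ok Q = true) (h : el P = el Q) :
    ∀ i, i < 24 → papp P i = papp Q i := by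
  have h1 : permOf P (ok_iff.1 hP).1 = permOf Q (ok_iff.1 hQ).1 := by
    rw [← coe_el hP, ← coe_el hQ, h]
  exact (permOf_eq_permOf_iff _ _).1 h1

theorem el_eq_of_papp {P Q : ℕ} (hP : ok P = true) (hQ : ok Q = true)
    (h : ∀ i, i < 24 → papp P i = papp Q i) : el P = el Q := by
  apply Subtype.ext
  rw [coe_el hP, coe_el hQ]
  exact (permOf_eq_permOf_iff _ _).2 h

theorem papp_idP : ∀ i, i < 24 → papp idP i = i := by decide +kernel

/-- normal forms of packed permutations -/
def norm (P : ℕ) : Bool := Nat.beq (pcomp P idP) P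

theorem pcomp_idP_congr {P Q : ℕ} (h : ∀ i, i < 24 → papp P i = papp Q i) :
    pcomp P idP = pcomp Q idP := by
  unfold pcomp
  rw [papp_idP 0 (by norm_num), papp_idP 1 (by norm_num), papp_idP 2 (by norm_num),
    papp_idP 3 (by norm_num), papp_idP 4 (by norm_num), papp_idP 5 (by norm_num),
    papp_idP 6 (by norm_num), papp_idP 7 (by norm_num), papp_idP 8 (by norm_num),
    papp_idP 9 (by norm_num), papp_idP 10 (by norm_num), papp_idP 11 (by norm_num),
    papp_idP 12 (by norm_num), papp_idP 13 (by norm_num), papp_idP 14 (by norm_num),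
    papp_idP 15 (by norm_num), papp_idP 16 (by norm_num), papp_idP 17 (by norm_num),
    papp_idP 18 (by norm_num), papp_idP 19 (by norm_num), papp_idP 20 (by norm_num),
    papp_idP 21 (by norm_num), papp_idP 22 (by norm_num), papp_idP 23 (by norm_num),
    h 0 (by norm_num), h 1 (by norm_num), h 2 (by norm_num),
    h 3 (by norm_num), h 4 (by norm_num), h 5 (by norm_num),
    h 6 (by norm_num), h 7 (by norm_num), h 8 (by norm_num),
    h 9 (by norm_num), h 10 (by norm_num), h 11 (by norm_num),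
    h 12 (by norm_num), h 13 (by norm_num), h 14 (by norm_num),
    h 15 (by norm_num), h 16 (by norm_num), h 17 (by norm_num),
    h 18 (by norm_num), h 19 (by norm_num), h 20 (by norm_num),
    h 21 (by norm_num), h 22 (by norm_num), h 23 (by norm_num)]

theorem eq_of_el_eq {P Q : ℕ} (hP : ok P = true) (hQ : ok Q = true) (nP : norm P = true)
    (nQ : norm Q = true) (h : el P = el Q) : P = Q := by
  have h1 := pcomp_idP_congr (papp_of_el_eq hP hQ h)
  unfold norm at nP nQ
  rw [Nat.eq_of_beq_eq_true nP, Nat.eq_of_beq_eq_true nQ] at h1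
  exact h1

/-- The check that a list of packed permutations is a subgroup of `M24`. -/
def chkGroup (L : List ℕ) : Bool :=
  (L.all fun P => ok P && norm P) && (L.any fun P => Nat.beq P idP) &&
    (L.all fun P => L.all fun Q => L.any fun R => Nat.beq (pcomp P Q) R) &&
    (L.all fun P => L.any fun Q => Nat.beq (pcomp P Q) idP)

theorem chkGroup_spec {L : List ℕ} (h : chkGroup L = true) :
    (∀ P ∈ L, ok P = true ∧ norm P = true) ∧ idP ∈ L ∧ (∀ P ∈ L, ∀ Q ∈ L, pcomp P Q ∈ L) ∧
      (∀ P ∈ L, ∃ Q ∈ L, pcomp P Q = idP) := by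
  unfold chkGroup at h
  simp only [Bool.and_eq_true, List.all_eq_true, List.any_eq_true, Nat.beq_eq] at h
  obtain ⟨⟨⟨h1, h2⟩, h3⟩, h4⟩ := h
  refine ⟨h1, ?_, ?_, h4⟩
  · obtain ⟨P, hP, rfl⟩ := h2
    exact hP
  · intro P hP Q hQ
    obtain ⟨R, hR, h5⟩ := h3 P hP Q hQ
    rwa [h5]

/-- The subgroup given by a list. -/
def listGroup (L : List ℕ) (h : chkGroup L = true) : Subgroup M24 where
  carrier := {g | ∃ P ∈ L, g = el P}
  one_mem' := ⟨idP, (chkGroup_spec h).2.1, el_idP.symm⟩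
  mul_mem' := by
    rintro _ _ ⟨P, hP, rfl⟩ ⟨Q, hQ, rfl⟩
    obtain ⟨h1, -, h3, -⟩ := chkGroup_spec h
    exact ⟨pcomp P Q, h3 P hP Q hQ, (el_pcomp (h1 P hP).1 (h1 Q hQ).1).symm⟩
  inv_mem' := by
    rintro _ ⟨P, hP, rfl⟩
    obtain ⟨h1, -, -, h4⟩ := chkGroup_spec h
    obtain ⟨Q, hQ, h5⟩ := h4 P hP
    refine ⟨Q, hQ, ?_⟩
    rw [inv_eq_iff_mul_eq_one, ← el_pcomp (h1 P hP).1 (h1 Q hQ).1, h5, el_idP]

theorem mem_listGroup {L : List ℕ} {h : chkGroup L = true} {g : M24} :
    g ∈ listGroup L h ↔ ∃ P ∈ L, g = el P := Iff.rfl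

theorem card_listGroup {L : List ℕ} (h : chkGroup L = true) (hn : L.Nodup) :
    Nat.card ↥(listGroup L h) = L.length := by
  classical
  obtain ⟨h1, -, -, -⟩ := chkGroup_spec h
  have h2 : ((listGroup L h : Subgroup M24) : Set M24) = ((L.toFinset.image el : Finset M24) : Set M24) := by
    ext g
    rw [SetLike.mem_coe, mem_listGroup, Finset.mem_coe, Finset.mem_image]
    constructor
    · rintro ⟨P, hP, rfl⟩
      exact ⟨P, List.mem_toFinset.2 hP, rfl⟩
    · rintro ⟨P, hP, rfl⟩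
      exact ⟨P, List.mem_toFinset.1 hP, rfl⟩
  rw [← SetLike.coe_sort_coe, Nat.card_coe_set_eq, h2, Set.ncard_coe_finset,
    Finset.card_image_of_injOn, List.toFinset_card_of_nodup hn]
  intro P hP Q hQ hPQ
  rw [Finset.mem_coe, List.mem_toFinset] at hP hQ
  exact eq_of_el_eq (h1 P hP).1 (h1 Q hQ).1 (h1 P hP).2 (h1 Q hQ).2 hPQ

end Cfsg.Agent.H865.ListGroup
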