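import Cfsg.Agent.J4.M24Invol
set_option linter.all false

/-!
The two classes of involutions of `Cfsg.M24`, with their fixed points.
-/

set_option autoImplicit false

namespace Cfsg.Agent.H865.Invol

open Cfsg Cfsg.Agent.SporadicA.GolayBase Cfsg.Agent.SporadicA.GolayPerm
open Cfsg.Agent.SporadicStructure.M24El Cfsg.Agent.J4.M24InvolData Cfsg.Agent.J4.M24Invol
open scoped Pointwise

theorem conj_cases {g : Equiv.Perm GolayPt} (hg : g ∈ M24) (h2 : orderOf g = 2) :
    ∃ k ∈ M24, k * g * k⁻¹ = (el P1 : Equiv.Perm GolayPt) ∨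
      k * g * k⁻¹ = (el P2 : Equiv.Perm GolayPt) := by
  have h3 : orderOf (⟨g, hg⟩ : M24) = 2 := by rw [Subgroup.orderOf_mk, h2]
  have h4 : (⟨g, hg⟩ : M24) * ⟨g, hg⟩ = 1 := by
    have := pow_orderOf_eq_one (⟨g, hg⟩ : M24)
    rwa [h3, pow_two] at this
  have h5 : (⟨g, hg⟩ : M24) ≠ 1 := by
    intro h
    rw [h, orderOf_one] at h3
    exact absurd h3 (by norm_num)
  obtain ⟨k, hk⟩ := invol_conj _ h4 h5
  refine ⟨k, k.2, ?_⟩
  rcases hk with hk | hk
  · left; exact congrArg Subtype.val hk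
  · right; exact congrArg Subtype.val hk

/-- the fixed points of a permutation -/
def fp (g : Equiv.Perm GolayPt) : Finset GolayPt := Finset.univ.filter fun p => g p = p

theorem mem_fp {g : Equiv.Perm GolayPt} {p : GolayPt} : p ∈ fp g ↔ g p = p := by
  unfold fp
  rw [Finset.mem_filter]
  simp only [Finset.mem_univ, true_and]

theorem fp_conj (k g : Equiv.Perm GolayPt) : fp (k * g * k⁻¹) = k • fp g := by
  ext p
  rw [mem_fp, Equiv.Perm.mul_apply, Equiv.Perm.mul_apply, ← Finset.inv_smul_mem_iff, mem_fp]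
  show k (g (k⁻¹ p)) = p ↔ g (k⁻¹ p) = k⁻¹ p
  rw [Equiv.Perm.eq_inv_iff_eq]

theorem fp_el {P : ℕ} (h : ok P = true) :
    fp (el P : Equiv.Perm GolayPt) = Finset.univ.filter fun p : GolayPt => papp P (idx p) = idx p := by
  ext p
  rw [mem_fp, Finset.mem_filter]
  simp only [Finset.mem_univ, true_and]
  constructor
  · intro h1
    have h2 := idx_el_smul h p
    rw [show el P • p = p from h1] at h2
    exact h2.symm
  · intro h1
    have h2 := el_smul_pt h p
    rw [h1, pt_idx] at h2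
    exact h2

theorem fp_P1 : fp (el P1 : Equiv.Perm GolayPt) = fin 1327290 := by
  rw [fp_el ok_P1]
  decide +kernel

theorem fp_P2 : fp (el P2 : Equiv.Perm GolayPt) = ∅ := by
  rw [fp_el ok_P2]
  decide +kernel

theorem fp_P1_mem : fp (el P1 : Equiv.Perm GolayPt) ∈ octads := by
  rw [fp_P1, fin_mem_octads_iff (by norm_num)]
  decide +kernel

theorem orderOf_P1 : orderOf (el P1 : Equiv.Perm GolayPt) = 2 := by
  apply orderOf_eq_prime
  · have h : pcomp P1 P1 = idP := by decide +kernel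
    have h2 : el P1 * el P1 = 1 := by rw [← el_pcomp ok_P1 ok_P1, h, el_idP]
    rw [pow_two]
    exact congrArg Subtype.val h2
  · intro h
    have h1 : (none : GolayPt) ∈ fp (el P1 : Equiv.Perm GolayPt) := by
      rw [mem_fp, h]; rfl
    rw [fp_P1, mem_fin] at h1
    revert h1
    decide +kernel

theorem orderOf_P2 : orderOf (el P2 : Equiv.Perm GolayPt) = 2 := by
  apply orderOf_eq_prime
  · have h : pcomp P2 P2 = idP := by decide +kernel
    have h2 : el P2 * el P2 = 1 := by rw [← el_pcomp ok_P2 ok_P2, h, el_idP]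
    rw [pow_two]
    exact congrArg Subtype.val h2
  · intro h
    have h1 : (none : GolayPt) ∈ fp (el P2 : Equiv.Perm GolayPt) := by
      rw [mem_fp, h]; rfl
    rw [fp_P2] at h1
    exact absurd h1 (Finset.notMem_empty _)

/-- An involution of `M24`: its class is determined by its fixed points. -/
theorem kinds {g : Equiv.Perm GolayPt} (hg : g ∈ M24) (h2 : orderOf g = 2) :
    (fp g ∈ octads ∧ ∃ k ∈ M24, k * g * k⁻¹ = (el P1 : Equiv.Perm GolayPt)) ∨
      ((∀ p, g p ≠ p) ∧ ∃ k ∈ M24, k * g * k⁻¹ = (el P2 : Equiv.Perm GolayPt)) := by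
  obtain ⟨k, hk, h | h⟩ := conj_cases hg h2
  · left
    refine ⟨?_, k, hk, h⟩
    have h3 := fp_P1_mem
    rw [← h, fp_conj] at h3
    exact (smul_mem_octads hk).1 h3
  · right
    refine ⟨?_, k, hk, h⟩
    intro p hp
    have h3 := fp_P2
    rw [← h, fp_conj] at h3
    have h4 : k • p ∈ k • fp g := Finset.smul_mem_smul_finset (mem_fp.2 hp)
    rw [h3] at h4
    exact absurd h4 (Finset.notMem_empty _)

theorem octad_nonempty {o : Finset GolayPt} (ho : o ∈ octads) : ∃ p, p ∈ o := by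
  have h : 0 < o.card := by rw [octad_card ho]; norm_num
  exact Finset.card_pos.1 h

theorem main : (∀ g ∈ Cfsg.M24, orderOf g = 2 →
      (Finset.univ.filter fun p => g p = p) ∈ Cfsg.octads ∨ ∀ p, g p ≠ p) ∧
    (∃ g ∈ Cfsg.M24, orderOf g = 2 ∧ (Finset.univ.filter fun p => g p = p) ∈ Cfsg.octads) ∧
    (∃ g ∈ Cfsg.M24, orderOf g = 2 ∧ ∀ p, g p ≠ p) ∧
    ∀ g ∈ Cfsg.M24, ∀ h ∈ Cfsg.M24, orderOf g = 2 → orderOf h = 2 →
      ((∀ p, g p ≠ p) ↔ (∀ p, h p ≠ p)) → ∃ k ∈ Cfsg.M24, k * g * k⁻¹ = h := by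
  have comb : ∀ {g h k l c : Equiv.Perm GolayPt}, k ∈ M24 → l ∈ M24 → k * g * k⁻¹ = c →
      l * h * l⁻¹ = c → ∃ m ∈ Cfsg.M24, m * g * m⁻¹ = h := by
    intro g h k l c hk hl h1 h2
    refine ⟨l⁻¹ * k, M24.mul_mem (M24.inv_mem hl) hk, ?_⟩
    have e : l⁻¹ * k * g * (l⁻¹ * k)⁻¹ = l⁻¹ * (k * g * k⁻¹) * l := by group
    rw [e, h1, ← h2]
    group
  refine ⟨?_, ?_, ?_, ?_⟩
  · intro g hg h2
    rcases kinds hg h2 with h | h
    · exact Or.inl h.1
    · exact Or.inr h.1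
  · exact ⟨_, (el P1).2, orderOf_P1, fp_P1_mem⟩
  · refine ⟨_, (el P2).2, orderOf_P2, ?_⟩
    intro p hp
    have h4 := mem_fp.2 hp
    rw [fp_P2] at h4
    exact absurd h4 (Finset.notMem_empty _)
  · intro g hg h hh hg2 hh2 hiff
    rcases kinds hg hg2 with ⟨h1, k, hk, hk'⟩ | ⟨h1, k, hk, hk'⟩ <;>
      rcases kinds hh hh2 with ⟨h3, l, hl, hl'⟩ | ⟨h3, l, hl, hl'⟩
    · exact comb hk hl hk' hl'
    · exfalso
      obtain ⟨p, hp⟩ := octad_nonempty h1
      exact hiff.2 h3 p (mem_fp.1 hp)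
    · exfalso
      obtain ⟨p, hp⟩ := octad_nonempty h3
      exact hiff.1 h1 p (mem_fp.1 hp)
    · exact comb hk hl hk' hl'

end Cfsg.Agent.H865.Invol
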