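import Cfsg.Agent.H865.ThreeClasses
import Cfsg.Agent.SporadicStructure.M24Frame
import Cfsg.Agent.SporadicStructure.TrioInv
set_option linter.all false

/-!
The subgroups of order 7 of `Cfsg.M24`: normaliser and centraliser.
-/

set_option autoImplicit false

namespace Cfsg.Agent.H865.Seven

open Cfsg Cfsg.Agent.SporadicA.GolayBase Cfsg.Agent.SporadicA.GolayPerm
open Cfsg.Agent.SporadicStructure.M24El Cfsg.Agent.H865.ListGroup
open Cfsg.Agent.SporadicStructure Cfsg.Agent.SporadicStructure.TrioCert
open scoped Pointwise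

/-- an element of order 7 -/
def P7 : ℕ := 966586800130256074043144679962544245

/-- its inverse -/
def P7i : ℕ := 967092202221933883805329175564290596

/-- an element of order 3 normalising it -/
def T7 : ℕ := 967896288235770178350991433501608512

/-- the 42 elements of the centraliser -/
def L42 : List ℕ := [
  984818244535754528103549039458486304, 979625754272064044071810094217048224,
  96193749980006979448055725498064001, 109174519196609833173223655253226177,
  90036674114903333086513093704080387, 91334589340080459683335094761107715,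
  969688387591137450116909926142095684, 967092202221933883805329175564290596,
  521188825512536934479589981795933317, 525082568987823309807252902166891077,
  968988456185115282884531996942633542, 978075481926431761282037006326837958,
  89061910457181888673006862222241959, 112427501724293617195269090150177991,
  504234154879666549157696150763046952, 522407255883087793648219433449544904,
  518834895928854924206933721672616553, 503257465336983656102207233234460329,
  525943226688964593264154919958022506, 523347279287130092453192150250839466,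
  103287794907134742891191070155420107, 104585154508812752128446630758866603,
  959439995538780705104269313146433997, 976314785732329982446251362188036717,
  498873167024145396070156913827219566, 507959796894251553822285201754480110,
  962405844002577511081929760098060527, 957213473028429809736882103647678735,
  500152066908998847810428616776014864, 506642353108323675752298274283423984,
  110380892040933023112652310326227249, 101294420801232451857358933361581489,
  100260082225651541054749841003032914, 95067473675826703291425825072832146,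
  94153005555798566958360310725402099, 83768025567598550960806041016906259,
  980308651765145777339951266139943220, 973818127927279706895620658882480500,
  966586800130256074043144679962544245, 965288450012162215797718698181308949,
  515678020530022460982385618197711414, 513081597349401189530642352845315734]

/-- the octads of the trio -/
def OM : List ℕ := [11575377, 4282144, 919694]

theorem ok7 : ok P7 = true := by decide +kernel
theorem ok7i : ok P7i = true := by decide +kernel
theorem okT : ok T7 = true := by decide +kernel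

theorem chk42 : chkGroup L42 = true := by decide +kernel

theorem nodup42 : L42.Nodup := by decide +kernel

/-- the points `s ^ i • 0` -/
def a7 : Fin 6 → GolayPt := ![some 0, some 21, some 20, some 6, some 15, some 13]

/-- the octad containing them -/
def o7 : Finset GolayPt := fin 11575377

theorem o7_mem : o7 ∈ octads := (fin_mem_octads_iff (by norm_num)).2 (by decide +kernel)

theorem a7_mem (i : Fin 6) : a7 i ∈ o7 := by
  unfold o7
  rw [mem_fin]
  revert i
  decide +kernel

theorem b7_notMem : (some 2 : GolayPt) ∉ o7 := by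
  unfold o7
  rw [mem_fin]
  decide +kernel

theorem a7_injective : Function.Injective a7 := by
  unfold Function.Injective
  decide +kernel

theorem frame_ext {g h : M24} (h1 : ∀ i, g • a7 i = h • a7 i)
    (h2 : g • (some 2 : GolayPt) = h • (some 2 : GolayPt)) : g = h := by
  have h3 : ((h⁻¹ * g : M24) : Equiv.Perm GolayPt) = 1 := by
    apply M24Frame.eq_one_of_fix_frame (h⁻¹ * g).2 o7_mem (s := Finset.univ.image a7)
      (p := some 2)
    · intro x hx
      obtain ⟨i, -, rfl⟩ := Finset.mem_image.1 hx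
      exact a7_mem i
    · rw [Finset.card_image_of_injective _ a7_injective]
      simp
    · intro x hx
      obtain ⟨i, -, rfl⟩ := Finset.mem_image.1 hx
      show (h⁻¹ * g) • a7 i = a7 i
      rw [mul_smul, h1, inv_smul_smul]
    · exact b7_notMem
    · show (h⁻¹ * g) • (some 2 : GolayPt) = some 2
      rw [mul_smul, h2, inv_smul_smul]
  have h4 : h⁻¹ * g = 1 := Subtype.ext h3
  exact (inv_mul_eq_one.1 h4).symm

theorem s_a7_zero : el P7 • a7 0 = a7 1 := by
  apply idx_injective
  rw [idx_el_smul ok7]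
  decide +kernel

theorem s_a7_one : el P7 • a7 1 = a7 2 := by
  apply idx_injective
  rw [idx_el_smul ok7]
  decide +kernel

theorem s_a7_two : el P7 • a7 2 = a7 3 := by
  apply idx_injective
  rw [idx_el_smul ok7]
  decide +kernel

theorem s_a7_three : el P7 • a7 3 = a7 4 := by
  apply idx_injective
  rw [idx_el_smul ok7]
  decide +kernel

theorem s_a7_four : el P7 • a7 4 = a7 5 := by
  apply idx_injective
  rw [idx_el_smul ok7]
  decide +kernel

theorem s_b7 : el P7 • (some 2 : GolayPt) = some 2 := by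
  apply idx_injective
  rw [idx_el_smul ok7]
  decide +kernel

theorem smul_comm' {g u v : M24} (h : SemiconjBy g u v) (p : GolayPt) :
    g • u • p = v • g • p := by
  rw [smul_smul, smul_smul, h.eq]

theorem semiconj_ext {g h v : M24} (hg : SemiconjBy g (el P7) v) (hh : SemiconjBy h (el P7) v)
    (h0 : g • a7 0 = h • a7 0) (h2 : g • (some 2 : GolayPt) = h • (some 2 : GolayPt)) :
    g = h := by
  have step : ∀ p : GolayPt, g • p = h • p → g • el P7 • p = h • el P7 • p := by
    intro p hp
    rw [smul_comm' hg, smul_comm' hh, hp]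
  have h1 := step _ h0
  rw [s_a7_zero] at h1
  have h3 := step _ h1
  rw [s_a7_one] at h3
  have h4 := step _ h3
  rw [s_a7_two] at h4
  have h5 := step _ h4
  rw [s_a7_three] at h5
  have h6 := step _ h5
  rw [s_a7_four] at h6
  refine frame_ext (fun i => ?_) h2
  fin_cases i
  · exact h0
  · exact h1
  · exact h3
  · exact h4
  · exact h5
  · exact h6

/-- the octad of a 7-cycle -/
def chk1 (P : ℕ) : Bool := (List.range 24).all fun y => Nat.beq (papp P y) y || OM.any fun m =>
  m.testBit y && m.testBit (papp P y) && m.testBit (papp P (papp P y)) &&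
    m.testBit (papp P (papp P (papp P y))) && m.testBit (papp P (papp P (papp P (papp P y))))

/-- the elements of the centraliser -/
def chk2 : Bool := (List.range 24).all fun y => (List.range 24).all fun c => OM.all fun m =>
  Nat.beq (papp P7 y) y || !(Nat.beq (papp P7 c) c) || !(m.testBit y) || m.testBit c ||
    L42.any fun Q => Nat.beq (papp Q 0) y && Nat.beq (papp Q 2) c

theorem chk1_true : chk1 P7 = true := by decide +kernel

theorem chk1i_true : chk1 P7i = true := by decide +kernel

theorem chk2_true : chk2 = true := by decide +kernel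

theorem OM_octads : ∀ m ∈ OM, fin m ∈ octads := by
  have h : ∀ m ∈ OM, m < 2 ^ 24 ∧ isCode m = true ∧ popcount m = 8 := by decide +kernel
  intro m hm
  exact (fin_mem_octads_iff (h m hm).1).2 (h m hm).2

/-- Elements conjugating `s` to a packed `V`: the image of the octad `o7`. -/
theorem smul_o7 {g : M24} {V : ℕ} (hV : ok V = true) (h : SemiconjBy g (el P7) (el V))
    (hchk : chk1 V = true) : papp V (idx (g • a7 0)) ≠ idx (g • a7 0) ∧
    ∃ m ∈ OM, (g : Equiv.Perm GolayPt) • o7 = fin m ∧ m.testBit (idx (g • a7 0)) = true := by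
  have hne : papp V (idx (g • a7 0)) ≠ idx (g • a7 0) := by
    intro h1
    rw [← idx_el_smul hV] at h1
    have h2 := idx_injective h1
    rw [← smul_comm' h] at h2
    have h3 := MulAction.injective g h2
    rw [s_a7_zero] at h3
    exact absurd (a7_injective h3) (by decide)
  refine ⟨hne, ?_⟩
  unfold chk1 at hchk
  have h4 := List.all_eq_true.1 hchk (idx (g • a7 0)) (List.mem_range.2 (idx_lt _))
  rw [Bool.or_eq_true, Nat.beq_eq] at h4
  have h5 := h4.resolve_left hne
  rw [List.any_eq_true] at h5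
  obtain ⟨m, hm, h6⟩ := h5
  simp only [Bool.and_eq_true] at h6
  obtain ⟨⟨⟨⟨h7, h8⟩, h9⟩, h10⟩, h11⟩ := h6
  refine ⟨m, hm, ?_, h7⟩
  have e1 : idx (g • a7 1) = papp V (idx (g • a7 0)) := by
    rw [← s_a7_zero, smul_comm' h, idx_el_smul hV]
  have e2 : idx (g • a7 2) = papp V (papp V (idx (g • a7 0))) := by
    rw [← s_a7_one, smul_comm' h, idx_el_smul hV, e1]
  have e3 : idx (g • a7 3) = papp V (papp V (papp V (idx (g • a7 0)))) := by
    rw [← s_a7_two, smul_comm' h, idx_el_smul hV, e2]
  have e4 : idx (g • a7 4) = papp V (papp V (papp V (papp V (idx (g • a7 0))))) := by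
    rw [← s_a7_three, smul_comm' h, idx_el_smul hV, e3]
  have hinj : Function.Injective fun i : Fin 5 => a7 i.castSucc := fun i j hij =>
    Fin.castSucc_injective 5 (a7_injective hij)
  apply M24Frame.smul_octad_eq_of_five g.2 o7_mem (OM_octads m hm)
    (s := Finset.univ.image fun i : Fin 5 => a7 i.castSucc)
  · intro x hx
    obtain ⟨i, -, rfl⟩ := Finset.mem_image.1 hx
    exact a7_mem _
  · rw [Finset.card_image_of_injective _ hinj]
    simp
  · intro x hx
    obtain ⟨i, -, rfl⟩ := Finset.mem_image.1 hx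
    rw [mem_fin]
    fin_cases i
    · exact h7
    · show m.testBit (idx (g • a7 1)) = true
      rw [e1]; exact h8
    · show m.testBit (idx (g • a7 2)) = true
      rw [e2]; exact h9
    · show m.testBit (idx (g • a7 3)) = true
      rw [e3]; exact h10
    · show m.testBit (idx (g • a7 4)) = true
      rw [e4]; exact h11

/-- the image of the point outside is fixed and outside the image octad -/
theorem smul_b7 {g : M24} {V : ℕ} (hV : ok V = true) (h : SemiconjBy g (el P7) (el V))
    {m : ℕ} (hm : (g : Equiv.Perm GolayPt) • o7 = fin m) :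
    papp V (idx (g • (some 2 : GolayPt))) = idx (g • (some 2 : GolayPt)) ∧
      m.testBit (idx (g • (some 2 : GolayPt))) = false := by
  constructor
  · rw [← idx_el_smul hV, ← smul_comm' h, s_b7]
  · rw [Bool.eq_false_iff]
    intro h1
    rw [← mem_fin, ← hm] at h1
    exact b7_notMem ((M24Frame.mem_of_smul_eq' rfl _).1 h1)

/-- the centraliser consists of the listed elements -/
theorem exists_list {g : M24} (hg : SemiconjBy g (el P7) (el P7)) : ∃ Q ∈ L42, g = el Q := by
  obtain ⟨h1, m, hm, h2, h3⟩ := smul_o7 ok7 hg chk1_true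
  obtain ⟨h4, h5⟩ := smul_b7 ok7 hg h2
  have h6 := chk2_true
  unfold chk2 at h6
  have h7 := List.all_eq_true.1 (List.all_eq_true.1 (List.all_eq_true.1 h6 (idx (g • a7 0))
    (List.mem_range.2 (idx_lt _))) (idx (g • (some 2 : GolayPt)))
    (List.mem_range.2 (idx_lt _))) m hm
  simp only [Bool.or_eq_true, Nat.beq_eq, h1, h4, h5, h3, false_or, Bool.not_true,
    List.any_eq_true, Bool.and_eq_true, Bool.false_eq_true, Nat.beq_refl] at h7
  obtain ⟨Q, hQ, h8, h9⟩ := h7
  refine ⟨Q, hQ, ?_⟩
  have okQ := ((chkGroup_spec chk42).1 Q hQ).1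
  have hcomm : ∀ Q ∈ L42, pcomp Q P7 = pcomp P7 Q := by decide +kernel
  have hQs : SemiconjBy (el Q) (el P7) (el P7) := by
    show el Q * el P7 = el P7 * el Q
    rw [← el_pcomp okQ ok7, ← el_pcomp ok7 okQ, hcomm Q hQ]
  apply semiconj_ext hg hQs
  · apply idx_injective
    rw [idx_el_smul okQ]
    exact h8.symm
  · apply idx_injective
    rw [idx_el_smul okQ]
    exact h9.symm

theorem list_comm {Q : ℕ} (hQ : Q ∈ L42) : SemiconjBy (el Q) (el P7) (el P7) := by
  have okQ := ((chkGroup_spec chk42).1 Q hQ).1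
  have hcomm : ∀ Q ∈ L42, pcomp Q P7 = pcomp P7 Q := by decide +kernel
  show el Q * el P7 = el P7 * el Q
  rw [← el_pcomp okQ ok7, ← el_pcomp ok7 okQ, hcomm Q hQ]

theorem mem_centralizer_iff {g : M24} :
    g ∈ Subgroup.centralizer (Subgroup.zpowers (el P7) : Set M24) ↔
      SemiconjBy g (el P7) (el P7) := by
  rw [Subgroup.mem_centralizer_iff]
  constructor
  · intro h
    exact (h _ (Subgroup.mem_zpowers _)).symm
  · intro h x hx
    obtain ⟨k, rfl⟩ := Subgroup.mem_zpowers_iff.1 hx
    have h1 : Commute g (el P7) := h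
    exact (h1.zpow_right k).eq.symm

theorem centralizer_eq :
    Subgroup.centralizer (Subgroup.zpowers (el P7) : Set M24) = listGroup L42 chk42 := by
  ext g
  rw [mem_centralizer_iff, mem_listGroup]
  constructor
  · exact exists_list
  · rintro ⟨Q, hQ, rfl⟩
    exact list_comm hQ

theorem card_centralizer :
    Nat.card ↥(Subgroup.centralizer (Subgroup.zpowers (el P7) : Set M24)) = 42 := by
  rw [centralizer_eq, card_listGroup chk42 nodup42]
  decide +kernel

theorem cube_s : pcomp P7i P7 = idP := by decide +kernel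

theorem el_P7i : el P7i = (el P7)⁻¹ := by
  rw [eq_inv_iff_mul_eq_one, ← el_pcomp ok7i ok7, cube_s, el_idP]

/-- the two candidates for an inverting element -/
def I1 : ℕ := 890657704856405175209764487651690848
/-- the two candidates for an inverting element -/
def I2 : ℕ := 897148222272463200403758641002688800

theorem okI1 : ok I1 = true := by decide +kernel
theorem okI2 : ok I2 = true := by decide +kernel

/-- transitivity of the centraliser on the moved points -/
def chk3 : Bool := (List.range 24).all fun y => Nat.beq (papp P7i y) y ||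
  L42.any fun Q => Nat.beq (papp Q y) 0

theorem chk3_true : chk3 = true := by decide +kernel

/-- the fixed points outside the octad -/
def chk4 : Bool := (List.range 24).all fun c => !(Nat.beq (papp P7i c) c) ||
  OM.all fun m => !(m.testBit 0) || m.testBit c || Nat.beq c (papp I1 2) ||
    Nat.beq c (papp I2 2)

theorem chk4_true : chk4 = true := by decide +kernel

/-- No element of `M24` inverts `s`. -/
theorem not_inverted (n : M24) (hn : SemiconjBy n (el P7) (el P7)⁻¹) : False := by
  rw [← el_P7i] at hn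
  obtain ⟨h1, -⟩ := smul_o7 ok7i hn chk1i_true
  -- normalise so that `n` fixes `a7 0`
  have h2 := chk3_true
  unfold chk3 at h2
  have h3 := List.all_eq_true.1 h2 (idx (n • a7 0)) (List.mem_range.2 (idx_lt _))
  rw [Bool.or_eq_true, Nat.beq_eq, List.any_eq_true] at h3
  obtain ⟨Q, hQ, h4⟩ := h3.resolve_left h1
  rw [Nat.beq_eq] at h4
  have okQ := ((chkGroup_spec chk42).1 Q hQ).1
  have hQc : SemiconjBy (el Q) (el P7i) (el P7i) := by
    rw [el_P7i]
    exact (list_comm hQ).inv_right
  have hn' : SemiconjBy (el Q * n) (el P7) (el P7i) := hQc.mul_left hn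
  have h5 : (el Q * n) • a7 0 = a7 0 := by
    apply idx_injective
    rw [mul_smul, idx_el_smul okQ, h4]
    decide +kernel
  generalize el Q * n = r at hn' h5
  obtain ⟨-, m, hm, h6, h7⟩ := smul_o7 ok7i hn' chk1i_true
  obtain ⟨h8, h9⟩ := smul_b7 ok7i hn' h6
  rw [h5] at h7
  have h7' : m.testBit 0 = true := h7
  have h10 := chk4_true
  unfold chk4 at h10
  have h11 := List.all_eq_true.1 h10 (idx (r • (some 2 : GolayPt)))
    (List.mem_range.2 (idx_lt _))
  rw [Bool.or_eq_true, h8, Nat.beq_refl] at h11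
  have h12 := List.all_eq_true.1 (h11.resolve_left (by decide)) m hm
  simp only [Bool.or_eq_true, Nat.beq_eq, h7', h9, Bool.not_true, Bool.false_eq_true,
    false_or] at h12
  -- values of `r`
  have e1 : idx (r • a7 1) = papp P7i (idx (a7 0)) := by
    rw [← s_a7_zero, smul_comm' hn', idx_el_smul ok7i, h5]
  have e2 : idx (r • a7 2) = papp P7i (papp P7i (idx (a7 0))) := by
    rw [← s_a7_one, smul_comm' hn', idx_el_smul ok7i, e1]
  have e3 : idx (r • a7 3) = papp P7i (papp P7i (papp P7i (idx (a7 0)))) := by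
    rw [← s_a7_two, smul_comm' hn', idx_el_smul ok7i, e2]
  have e4 : idx (r • a7 4) = papp P7i (papp P7i (papp P7i (papp P7i (idx (a7 0))))) := by
    rw [← s_a7_three, smul_comm' hn', idx_el_smul ok7i, e3]
  have e5 : idx (r • a7 5) =
      papp P7i (papp P7i (papp P7i (papp P7i (papp P7i (idx (a7 0)))))) := by
    rw [← s_a7_four, smul_comm' hn', idx_el_smul ok7i, e4]
  have fin' : ∀ I : ℕ, ok I = true → papp I (idx (a7 0)) = idx (a7 0) →
      papp I (idx (a7 1)) = papp P7i (idx (a7 0)) →
      papp I (idx (a7 2)) = papp P7i (papp P7i (idx (a7 0))) →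
      papp I (idx (a7 3)) = papp P7i (papp P7i (papp P7i (idx (a7 0)))) →
      papp I (idx (a7 4)) = papp P7i (papp P7i (papp P7i (papp P7i (idx (a7 0))))) →
      papp I (idx (a7 5)) =
        papp P7i (papp P7i (papp P7i (papp P7i (papp P7i (idx (a7 0)))))) →
      idx (r • (some 2 : GolayPt)) = papp I 2 → r = el I := by
    intro I okI k0 k1 k2 k3 k4 k5 k6
    refine frame_ext (fun i => ?_) ?_
    · apply idx_injective
      rw [idx_el_smul okI]
      fin_cases i
      · show idx (r • a7 0) = papp I (idx (a7 0))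
        rw [h5, k0]
      · show idx (r • a7 1) = papp I (idx (a7 1))
        rw [e1, k1]
      · show idx (r • a7 2) = papp I (idx (a7 2))
        rw [e2, k2]
      · show idx (r • a7 3) = papp I (idx (a7 3))
        rw [e3, k3]
      · show idx (r • a7 4) = papp I (idx (a7 4))
        rw [e4, k4]
      · show idx (r • a7 5) = papp I (idx (a7 5))
        rw [e5, k5]
    · apply idx_injective
      rw [idx_el_smul okI]
      exact k6
  have contra : ∀ I : ℕ, ok I = true → r = el I →
      ∀ p : GolayPt, papp I (papp P7 (idx p)) = papp P7i (papp I (idx p)) := by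
    intro I okI hr p
    have h := smul_comm' hn' p
    rw [hr] at h
    have h' := congrArg idx h
    rwa [idx_el_smul okI, idx_el_smul ok7, idx_el_smul ok7i, idx_el_smul okI] at h'
  rcases h12 with h12 | h12
  · have hr := fin' I1 okI1 (by decide +kernel) (by decide +kernel) (by decide +kernel)
      (by decide +kernel) (by decide +kernel) (by decide +kernel) h12
    have := contra I1 okI1 hr
    revert this
    decide +kernel
  · have hr := fin' I2 okI2 (by decide +kernel) (by decide +kernel) (by decide +kernel)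
      (by decide +kernel) (by decide +kernel) (by decide +kernel) h12
    have := contra I2 okI2 hr
    revert this
    decide +kernel

theorem orderOf_s : orderOf (el P7) = 7 := by
  have : Fact (Nat.Prime 7) := ⟨by norm_num⟩
  apply orderOf_eq_prime
  · have h : pcomp P7 (pcomp P7 (pcomp P7 (pcomp P7 (pcomp P7 (pcomp P7 P7))))) = idP := by
      decide +kernel
    have h2 : ∀ Q, ok Q = true → ok (pcomp P7 Q) = true := fun Q hQ => ok_pcomp ok7 hQ
    rw [← el_idP, ← h, el_pcomp ok7 (h2 _ (h2 _ (h2 _ (h2 _ (h2 _ ok7))))),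
      el_pcomp ok7 (h2 _ (h2 _ (h2 _ (h2 _ ok7)))), el_pcomp ok7 (h2 _ (h2 _ (h2 _ ok7))),
      el_pcomp ok7 (h2 _ (h2 _ ok7)), el_pcomp ok7 (h2 _ ok7), el_pcomp ok7 ok7]
    simp only [pow_succ, pow_zero, one_mul, mul_assoc]
  · intro h
    have h2 := idx_el_smul ok7 (a7 0)
    rw [h, one_smul] at h2
    revert h2
    decide +kernel

theorem t_semiconj : SemiconjBy (el T7) (el P7) (el P7 ^ 2) := by
  have h : pcomp T7 P7 = pcomp (pcomp P7 P7) T7 := by decide +kernel
  show el T7 * el P7 = el P7 ^ 2 * el T7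
  rw [pow_two, ← el_pcomp okT ok7, h, el_pcomp (ok_pcomp ok7 ok7) okT, el_pcomp ok7 ok7]

theorem pow_mod (m : ℕ) : el P7 ^ m = el P7 ^ (m % 7) := by
  conv_rhs => rw [← orderOf_s]
  rw [pow_mod_orderOf]

theorem t_mul {n : M24} {k : ℕ} (h : SemiconjBy n (el P7) (el P7 ^ k)) :
    SemiconjBy (el T7 * n) (el P7) (el P7 ^ (2 * k % 7)) := by
  rw [← pow_mod, pow_mul]
  exact (t_semiconj.pow_right k).mul_left h

theorem exists_pow {n : M24}
    (hn : n ∈ Subgroup.normalizer (Subgroup.zpowers (el P7) : Set M24)) :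
    ∃ k, 0 < k ∧ k < 7 ∧ SemiconjBy n (el P7) (el P7 ^ k) := by
  have h1 : n * el P7 * n⁻¹ ∈ Subgroup.zpowers (el P7) :=
    (Subgroup.mem_normalizer_iff.1 hn _).1 (Subgroup.mem_zpowers _)
  obtain ⟨z, hz⟩ := Subgroup.mem_zpowers_iff.1 h1
  have h2 : el P7 ^ (z % 7).toNat = n * el P7 * n⁻¹ := by
    rw [← hz, ← zpow_natCast, Int.toNat_of_nonneg (Int.emod_nonneg _ (by norm_num))]
    have := zpow_mod_orderOf (el P7) z
    rw [orderOf_s] at this
    exact this
  refine ⟨(z % 7).toNat, ?_, ?_, ?_⟩
  · rw [Nat.pos_iff_ne_zero]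
    intro h3
    rw [h3, pow_zero, eq_comm, conj_eq_one_iff] at h2
    have h4 := orderOf_s
    rw [h2, orderOf_one] at h4
    exact absurd h4 (by norm_num)
  · have := Int.emod_lt_of_pos z (show (0 : ℤ) < 7 by norm_num)
    have := Int.emod_nonneg z (show (7 : ℤ) ≠ 0 by norm_num)
    omega
  · show n * el P7 = _ * n
    rw [h2, inv_mul_cancel_right]

theorem exists_cent {n : M24}
    (hn : n ∈ Subgroup.normalizer (Subgroup.zpowers (el P7) : Set M24)) :
    ∃ j : Fin 3, el T7 ^ (j : ℕ) * n ∈
      Subgroup.centralizer (Subgroup.zpowers (el P7) : Set M24) := by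
  obtain ⟨k, hk0, hk7, hk⟩ := exists_pow hn
  have hinv : ∀ m : M24, SemiconjBy m (el P7) (el P7 ^ 6) → False := by
    intro m hm
    apply not_inverted m
    have h1 : (el P7)⁻¹ = el P7 ^ 6 := by
      rw [inv_eq_iff_mul_eq_one, ← pow_succ', pow_mod, pow_zero]
    rw [h1]
    exact hm
  have t1 := t_mul hk
  have t2 := t_mul t1
  have hk' : k = 1 ∨ k = 2 ∨ k = 3 ∨ k = 4 ∨ k = 5 ∨ k = 6 := by omega
  rcases hk' with rfl | rfl | rfl | rfl | rfl | rfl
  · refine ⟨0, mem_centralizer_iff.2 ?_⟩
    rw [pow_one] at hk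
    simpa using hk
  · refine ⟨2, mem_centralizer_iff.2 ?_⟩
    have h3 : el P7 ^ (2 * (2 * 2 % 7) % 7) = el P7 := pow_one _
    rw [h3, ← mul_assoc, ← pow_two] at t2
    exact t2
  · exact (hinv _ t1).elim
  · refine ⟨1, mem_centralizer_iff.2 ?_⟩
    have h3 : el P7 ^ (2 * 4 % 7) = el P7 := pow_one _
    rw [h3] at t1
    simpa using t1
  · exact (hinv _ t2).elim
  · exact (hinv _ hk).elim

theorem t_mem : el T7 ∈ Subgroup.normalizer (Subgroup.zpowers (el P7) : Set M24) := by
  apply Subgroup.mem_normalizer_fintype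
  intro x hx
  obtain ⟨k, rfl⟩ := Subgroup.mem_zpowers_iff.1 hx
  have h1 := (t_semiconj.zpow_right k).eq
  rw [h1, mul_inv_cancel_right]
  exact Subgroup.zpow_mem _ (Subgroup.pow_mem _ (Subgroup.mem_zpowers _) 2) k

theorem t_pow_notMem : ∀ j : Fin 3, j ≠ 0 → el T7 ^ (j : ℕ) ∉
    Subgroup.centralizer (Subgroup.zpowers (el P7) : Set M24) := by
  have h1 : SemiconjBy (1 : M24) (el P7) (el P7 ^ 1) := by
    show 1 * el P7 = el P7 ^ 1 * 1
    rw [one_mul, mul_one, pow_one]
  have t1 := t_mul h1
  have t2 := t_mul t1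
  rw [mul_one] at t1 t2
  have key : ∀ (g : M24) (k : ℕ), 1 < k → k < 7 → SemiconjBy g (el P7) (el P7 ^ k) →
      g ∉ Subgroup.centralizer (Subgroup.zpowers (el P7) : Set M24) := by
    intro g k hk hk' hg hc
    rw [mem_centralizer_iff] at hc
    have h2 : el P7 ^ k * g = el P7 * g := by rw [← hg.eq, ← hc.eq]
    have h3 := mul_right_cancel h2
    have h4 : el P7 ^ k = el P7 ^ 1 := by rw [pow_one]; exact h3
    have h5 := pow_inj_mod.1 h4
    rw [orderOf_s, Nat.mod_eq_of_lt hk'] at h5
    omega
  intro j hj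
  fin_cases j
  · exact absurd rfl hj
  · show el T7 ^ 1 ∉ _
    rw [pow_one]
    exact key _ _ (by norm_num) (by norm_num) t1
  · show el T7 ^ 2 ∉ _
    rw [pow_two]
    exact key _ _ (by norm_num) (by norm_num) t2

theorem orderT : el T7 ^ 3 = 1 := by
  have h : pcomp T7 (pcomp T7 T7) = idP := by decide +kernel
  rw [← el_idP, ← h, el_pcomp okT (ok_pcomp okT okT), el_pcomp okT okT, pow_succ, pow_two,
    mul_assoc]

theorem card_normalizer :
    Nat.card ↥(Subgroup.normalizer (Subgroup.zpowers (el P7) : Set M24)) = 126 := by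
  set C := Subgroup.centralizer (Subgroup.zpowers (el P7) : Set M24) with hC
  set N := Subgroup.normalizer (Subgroup.zpowers (el P7) : Set M24) with hN
  have hCN : C ≤ N := Subgroup.centralizer_le_normalizer _
  let f : Fin 3 × ↥C → ↥N := fun x =>
    ⟨(el T7 ^ (x.1 : ℕ))⁻¹ * x.2.1, N.mul_mem (N.inv_mem (N.pow_mem t_mem _)) (hCN x.2.2)⟩
  have hf : Function.Bijective f := by
    constructor
    · rintro ⟨i, c, hc⟩ ⟨j, d, hd⟩ hij
      have h1 : (el T7 ^ (i : ℕ))⁻¹ * c = (el T7 ^ (j : ℕ))⁻¹ * d := congrArg Subtype.val hij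
      have h2 : el T7 ^ (j : ℕ) * (el T7 ^ (i : ℕ))⁻¹ ∈ C := by
        have h3 : el T7 ^ (j : ℕ) * (el T7 ^ (i : ℕ))⁻¹ = d * c⁻¹ := by
          rw [eq_mul_inv_iff_mul_eq, mul_assoc, h1, mul_inv_cancel_left]
        rw [h3]
        exact C.mul_mem hd (C.inv_mem hc)
      have h3 : i = j := by
        have h4 : (el T7 ^ (i : ℕ))⁻¹ = el T7 ^ (2 * (i : ℕ)) := by
          rw [inv_eq_iff_mul_eq_one, ← pow_add, show (i : ℕ) + 2 * i = 3 * i by ring, pow_mul,
            orderT, one_pow]
        rw [h4, ← pow_add] at h2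
        have h5 : el T7 ^ ((j : ℕ) + 2 * i) = el T7 ^ (((j : ℕ) + 2 * i) % 3) := by
          conv_lhs => rw [← Nat.div_add_mod ((j : ℕ) + 2 * i) 3, pow_add, pow_mul, orderT, one_pow,
            one_mul]
        rw [h5] at h2
        by_contra hne
        have hlt : ((j : ℕ) + 2 * i) % 3 < 3 := Nat.mod_lt _ (by norm_num)
        refine t_pow_notMem ⟨((j : ℕ) + 2 * i) % 3, hlt⟩ ?_ h2
        intro h6
        have h7 : ((j : ℕ) + 2 * i) % 3 = 0 := congrArg Fin.val h6
        apply hne
        apply Fin.ext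
        have := i.2
        have := j.2
        omega
      subst h3
      have h4 : c = d := mul_left_cancel h1
      subst h4
      rfl
    · rintro ⟨n, hn⟩
      obtain ⟨j, hj⟩ := exists_cent hn
      refine ⟨(j, ⟨_, hj⟩), Subtype.ext ?_⟩
      show (el T7 ^ (j : ℕ))⁻¹ * (el T7 ^ (j : ℕ) * n) = n
      rw [inv_mul_cancel_left]
  rw [← Nat.card_congr (Equiv.ofBijective f hf), Nat.card_prod, Nat.card_eq_fintype_card,
    Fintype.card_fin, card_centralizer]

/-- the trio -/
def T0 : Finset (Finset GolayPt) := tri 11575377 4282144 919694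

theorem T0_mem : T0 ∈ trios :=
  TrioInv.tri_mem_trios (by norm_num) (by norm_num) (by norm_num) (by decide +kernel)

theorem el_smul_tri {P : ℕ} (hP : ok P = true) (a b c : ℕ) :
    (el P : Equiv.Perm GolayPt) • tri a b c = tri (pimg P a) (pimg P b) (pimg P c) := by
  rw [coe_el hP, smul_tri]

theorem smul_T0_of_list {Q : ℕ} (hQ : Q ∈ L42) : (el Q : Equiv.Perm GolayPt) • T0 = T0 := by
  have okQ := ((chkGroup_spec chk42).1 Q hQ).1
  have h : ∀ Q ∈ L42, same3 (pimg Q 11575377) (pimg Q 4282144) (pimg Q 919694)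
      11575377 4282144 919694 = true := by decide +kernel
  unfold T0
  rw [el_smul_tri okQ]
  exact tri_eq_of_same3 (h Q hQ)

theorem smul_T0_t : (el T7 : Equiv.Perm GolayPt) • T0 = T0 := by
  have h : same3 (pimg T7 11575377) (pimg T7 4282144) (pimg T7 919694)
      11575377 4282144 919694 = true := by decide +kernel
  unfold T0
  rw [el_smul_tri okT]
  exact tri_eq_of_same3 h

theorem smul_T0 {n : M24}
    (hn : n ∈ Subgroup.normalizer (Subgroup.zpowers (el P7) : Set M24)) :
    (n : Equiv.Perm GolayPt) • T0 = T0 := by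
  obtain ⟨j, hj⟩ := exists_cent hn
  rw [centralizer_eq, mem_listGroup] at hj
  obtain ⟨Q, hQ, h⟩ := hj
  have h1 : n = (el T7 ^ (j : ℕ))⁻¹ * el Q := by rw [← h, inv_mul_cancel_left]
  have h2 : el T7 ∈ MulAction.stabilizer M24 T0 := smul_T0_t
  have h3 : el Q ∈ MulAction.stabilizer M24 T0 := smul_T0_of_list hQ
  have h4 : n ∈ MulAction.stabilizer M24 T0 := by
    rw [h1]
    exact Subgroup.mul_mem _ (Subgroup.inv_mem _ (Subgroup.pow_mem _ h2 _)) h3
  exact h4

theorem noncomm : ∃ x ∈ Subgroup.centralizer (Subgroup.zpowers (el P7) : Set M24),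
    ∃ y ∈ Subgroup.centralizer (Subgroup.zpowers (el P7) : Set M24), x * y ≠ y * x := by
  have h1 : L42.getD 1 0 ∈ L42 := by decide +kernel
  have h2 : L42.getD 2 0 ∈ L42 := by decide +kernel
  obtain ⟨hok, -, hcl, -⟩ := chkGroup_spec chk42
  refine ⟨el (L42.getD 1 0), ?_, el (L42.getD 2 0), ?_, ?_⟩
  · rw [centralizer_eq]; exact ⟨_, h1, rfl⟩
  · rw [centralizer_eq]; exact ⟨_, h2, rfl⟩
  · rw [← el_pcomp (hok _ h1).1 (hok _ h2).1, ← el_pcomp (hok _ h2).1 (hok _ h1).1]
    intro h
    have h3 := eq_of_el_eq (hok _ (hcl _ h1 _ h2)).1 (hok _ (hcl _ h2 _ h1)).1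
      (hok _ (hcl _ h1 _ h2)).2 (hok _ (hcl _ h2 _ h1)).2 h
    revert h3
    decide +kernel

/-! ### Transport to any subgroup of order 7 -/

theorem exists_conj {S : Subgroup ↥M24} (hS : Nat.card S = 7) :
    ∃ k : ↥M24, MulAut.conj k • Subgroup.zpowers (el P7) = S := by
  have : Fact (Nat.Prime 7) := ⟨by norm_num⟩
  have h1 : (Nat.card M24).factorization 7 = 1 := by
    rw [Cfsg.Agent.SporadicA.M24Trans.card_M24,
      show (244823040 : ℕ) = 7 ^ 1 * 34974720 by norm_num,
      Nat.factorization_mul (by norm_num) (by norm_num),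
      Nat.Prime.factorization_pow (by norm_num),
      Finsupp.add_apply, Finsupp.single_eq_same,
      Nat.factorization_eq_zero_of_not_dvd (by norm_num)]
  have h2 : Nat.card S = 7 ^ (Nat.card M24).factorization 7 := by rw [h1, hS, pow_one]
  have h3 : Nat.card (Subgroup.zpowers (el P7)) = 7 ^ (Nat.card M24).factorization 7 := by
    rw [h1, Nat.card_zpowers, orderOf_s, pow_one]
  obtain ⟨k, hk⟩ := MulAction.exists_smul_eq M24 (Sylow.ofCard _ h3) (Sylow.ofCard _ h2)
  exact ⟨k, congrArg Sylow.toSubgroup hk⟩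

theorem normalizer_conj (k : ↥M24) (S : Subgroup ↥M24) :
    Subgroup.normalizer ((MulAut.conj k • S : Subgroup ↥M24) : Set ↥M24) =
      MulAut.conj k • Subgroup.normalizer (S : Set ↥M24) := by
  ext x
  rw [Subgroup.mem_pointwise_smul_iff_inv_smul_mem, Subgroup.mem_normalizer_iff,
    Subgroup.mem_normalizer_iff]
  have key : ∀ g : ↥M24, g ∈ MulAut.conj k • S ↔ k⁻¹ * g * k ∈ S := by
    intro g
    rw [Subgroup.mem_pointwise_smul_iff_inv_smul_mem, ← map_inv, MulAut.smul_def,
      MulAut.conj_apply, inv_inv]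
  have e : (MulAut.conj k)⁻¹ • x = k⁻¹ * x * k := by
    rw [← map_inv, MulAut.smul_def, MulAut.conj_apply, inv_inv]
  rw [e]
  constructor
  · intro h g
    have h1 := h (k * g * k⁻¹)
    rw [key, key] at h1
    have e1 : k⁻¹ * (k * g * k⁻¹) * k = g := by group
    have e2 : k⁻¹ * (x * (k * g * k⁻¹) * x⁻¹) * k =
        k⁻¹ * x * k * g * (k⁻¹ * x * k)⁻¹ := by group
    rw [e1, e2] at h1
    exact h1
  · intro h g
    rw [key, key]
    have h1 := h (k⁻¹ * g * k)
    have e2 : k⁻¹ * x * k * (k⁻¹ * g * k) * (k⁻¹ * x * k)⁻¹ = k⁻¹ * (x * g * x⁻¹) * k := by group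
    rw [e2] at h1
    exact h1

theorem centralizer_conj (k : ↥M24) (S : Subgroup ↥M24) :
    Subgroup.centralizer ((MulAut.conj k • S : Subgroup ↥M24) : Set ↥M24) =
      MulAut.conj k • Subgroup.centralizer (S : Set ↥M24) := by
  ext x
  rw [Subgroup.mem_pointwise_smul_iff_inv_smul_mem, Subgroup.mem_centralizer_iff,
    Subgroup.mem_centralizer_iff]
  have e : (MulAut.conj k)⁻¹ • x = k⁻¹ * x * k := by
    rw [← map_inv, MulAut.smul_def, MulAut.conj_apply, inv_inv]
  rw [e]
  constructor
  · intro h g hg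
    have h1 := h (k * g * k⁻¹) ⟨g, hg, rfl⟩
    have e1 : k⁻¹ * (k * g * k⁻¹ * x) * k = g * (k⁻¹ * x * k) := by group
    have e2 : k⁻¹ * (x * (k * g * k⁻¹)) * k = k⁻¹ * x * k * g := by group
    rw [← e1, ← e2, h1]
  · rintro h _ ⟨g, hg, rfl⟩
    have h1 := h g hg
    show k * g * k⁻¹ * x = x * (k * g * k⁻¹)
    have e1 : k * (g * (k⁻¹ * x * k)) * k⁻¹ = k * g * k⁻¹ * x := by group
    have e2 : k * (k⁻¹ * x * k * g) * k⁻¹ = x * (k * g * k⁻¹) := by group
    rw [← e1, ← e2, h1]

theorem card_conj_smul (k : ↥M24) (H : Subgroup ↥M24) :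
    Nat.card ↥(MulAut.conj k • H) = Nat.card ↥H :=
  (Nat.card_congr (Subgroup.equivSMul (MulAut.conj k) H).toEquiv).symm

theorem main (S : Subgroup ↥Cfsg.M24) (hS : Nat.card S = 7) :
    Nat.card ↥(Subgroup.normalizer (S : Set ↥Cfsg.M24)) = 126 ∧
    Nat.card ↥(Subgroup.centralizer (S : Set ↥Cfsg.M24)) = 42 ∧
    (∃ x ∈ Subgroup.centralizer (S : Set ↥Cfsg.M24),
      ∃ y ∈ Subgroup.centralizer (S : Set ↥Cfsg.M24), x * y ≠ y * x) ∧
    ∃ T ∈ Cfsg.trios, ∀ n ∈ Subgroup.normalizer (S : Set ↥Cfsg.M24),
      ((n : ↥Cfsg.M24) : Equiv.Perm Cfsg.GolayPt) • T = T := by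
  obtain ⟨k, rfl⟩ := exists_conj hS
  rw [normalizer_conj, centralizer_conj]
  refine ⟨?_, ?_, ?_, ?_⟩
  · rw [card_conj_smul, card_normalizer]
  · rw [card_conj_smul, card_centralizer]
  · obtain ⟨x, hx, y, hy, hxy⟩ := noncomm
    refine ⟨k * x * k⁻¹, ⟨x, hx, rfl⟩, k * y * k⁻¹, ⟨y, hy, rfl⟩, ?_⟩
    intro h
    apply hxy
    have e1 : k * x * k⁻¹ * (k * y * k⁻¹) = k * (x * y) * k⁻¹ := by group
    have e2 : k * y * k⁻¹ * (k * x * k⁻¹) = k * (y * x) * k⁻¹ := by group
    rw [e1, e2] at h
    exact mul_left_cancel (mul_right_cancel h)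
  · refine ⟨(k : Equiv.Perm GolayPt) • T0, TrioInv.smul_mem_trios k.2 T0_mem, ?_⟩
    rintro _ ⟨n, hn, rfl⟩
    show ((k : Equiv.Perm GolayPt) * (n : Equiv.Perm GolayPt) * (k : Equiv.Perm GolayPt)⁻¹) •
      (k : Equiv.Perm GolayPt) • T0 = (k : Equiv.Perm GolayPt) • T0
    rw [mul_smul, mul_smul, inv_smul_smul, smul_T0 hn]

end Cfsg.Agent.H865.Seven
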