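import Mathlib
import Cfsg.Prelude.Def_Spor_Mathieu
import Cfsg.Agent.H860.Two24
import Cfsg.Agent.H865.ThreeClasses
import Cfsg.Agent.H866.J4Odd
import Cfsg.Agent.H859.Heis
import Cfsg.Agent.H858.VK
import Cfsg.Agent.FastGrp
import Cfsg.Agent.Prune
set_option linter.all false

section
prune_inst 0x7f00000000000000000000000000000000000000000000000000000000000000000000000000000000000000000000000000000000000000000000000000000000000000000000000000000000000000003fffffffffffffffffffffffffffbeffbdffffffff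

-- part: H865/U3Max
section
set_option linter.all false
open scoped Cfsg.Agent.FastGrp

-- part: H865/U3Frob
section
/-!
# A group `7 : 3` acting on an elementary abelian 2-group

`exists_fixed` : an element of order 3 of a group `7 : 3` normalizing a subgroup `E` of exponent 2 commutes with an
element of `E` other than 1, or the element of order 7 centralizes `E`.
-/

set_option autoImplicit false

namespace Cfsg.Agent.H865.U3Frob

theorem ring_aux {R : Type*} [Ring R] (h2 : (2 : R) = 0) {s c : R} (hs : s ^ 7 = 1) (hc : 1 + c + c * c = 0)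
    (hcs : c * s = s * s * c) : s = 1 := by
  have hneg : ∀ x : R, -x = x := fun x => by
    have h : x + x = 0 := by rw [← two_mul, h2, zero_mul]
    exact neg_eq_of_add_eq_zero_left h
  have hadd : ∀ x : R, x + x = 0 := fun x => by rw [← two_mul, h2, zero_mul]
  have hcc : c * c = 1 + c := by
    have h := eq_neg_of_add_eq_zero_right hc
    rw [hneg] at h
    exact h
  have h1 : c * c * s = s ^ 4 * (c * c) := by
    calc c * c * s = c * (c * s) := by rw [mul_assoc]
      _ = c * (s * s * c) := by rw [hcs]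
      _ = (c * s) * (s * c) := by simp only [mul_assoc]
      _ = (s * s * c) * (s * c) := by rw [hcs]
      _ = s * s * (c * s) * c := by simp only [mul_assoc]
      _ = s * s * (s * s * c) * c := by rw [hcs]
      _ = s ^ 4 * (c * c) := by simp only [pow_succ, pow_zero, one_mul, mul_assoc]
  rw [hcc, add_mul, one_mul, hcs, mul_add, mul_one] at h1
  -- `s + s² c = s⁴ + s⁴ c`
  have h3 : s + s ^ 4 = (s ^ 2 + s ^ 4) * c := by
    have h4 : s + s ^ 4 = (s + s * s * c) + (s * s * c + s ^ 4) := by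
      rw [add_assoc, ← add_assoc (s * s * c), hadd, zero_add]
    rw [h4, h1, add_mul, pow_two]
    have h5 : s ^ 4 + s ^ 4 * c + (s * s * c + s ^ 4) = (s ^ 4 + s ^ 4) + (s ^ 4 * c + s * s * c) := by abel
    rw [h5, hadd, zero_add, add_comm]
  have h4 : (s + s ^ 4) * s = s ^ 2 * (s + s ^ 4) := by
    rw [h3, mul_assoc, hcs]
    have h5 : (s ^ 2 + s ^ 4) * (s * s * c) = ((s ^ 2 + s ^ 4) * (s * s)) * c := by simp only [mul_assoc]
    have h6 : (s ^ 2 + s ^ 4) * (s * s) = s ^ 2 * (s ^ 2 + s ^ 4) := by noncomm_ring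
    rw [h5, h6, mul_assoc]
  -- `s² + s⁵ + s³ + s⁶ = 0`
  have h5 : s ^ 2 + s ^ 5 + s ^ 3 + s ^ 6 = 0 := by
    have h6 : (s + s ^ 4) * s + s ^ 2 * (s + s ^ 4) = 0 := by rw [h4, hadd]
    have h7 : (s + s ^ 4) * s + s ^ 2 * (s + s ^ 4) = s ^ 2 + s ^ 5 + s ^ 3 + s ^ 6 := by noncomm_ring
    rw [← h7, h6]
  have h6 : 1 + s + s ^ 3 + s ^ 4 = 0 := by
    have h7 : s ^ 7 * (1 + s + s ^ 3 + s ^ 4) = s ^ 5 * (s ^ 2 + s ^ 5 + s ^ 3 + s ^ 6) := by noncomm_ring
    rw [h5, mul_zero, hs, one_mul] at h7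
    exact h7
  have h7 : (s ^ 3 + s ^ 2 + s) * (1 + s + s ^ 3 + s ^ 4) =
      s ^ 7 + s + ((s ^ 2 + s ^ 3 + s ^ 4 + s ^ 5 + s ^ 6) + (s ^ 2 + s ^ 3 + s ^ 4 + s ^ 5 + s ^ 6)) := by
    noncomm_ring
  rw [h6, mul_zero, hadd, add_zero, hs] at h7
  have h8 := eq_neg_of_add_eq_zero_right h7.symm
  rw [hneg] at h8
  exact h8

variable {G : Type*} [Group G]

/-- **a group `7 : 3` acting on a group of exponent 2** -/
theorem exists_fixed {E : Subgroup G} (hE : ∀ x ∈ E, x * x = 1) {s c : G} (hs : s ^ 7 = 1) (hc : c ^ 3 = 1)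
    (hcs : c * s = s * s * c) (hsN : s ∈ Subgroup.normalizer (E : Set G))
    (hcN : c ∈ Subgroup.normalizer (E : Set G)) (hno : ∀ x ∈ E, c * x = x * c → x = 1) :
    ∀ x ∈ E, s * x = x * s := by
  have hinv : ∀ x : E, x⁻¹ = x := fun x => inv_eq_of_mul_eq_one_left (Subtype.ext (hE x x.2))
  let _ : CommGroup E := { (inferInstance : Group E) with
    mul_comm := fun a b => by
      have h1 := hinv (a * b)
      rw [mul_inv_rev, hinv, hinv] at h1
      exact h1.symm }
  have hext : ∀ a b : AddMonoid.End (Additive E), (∀ x : E, ((Additive.toMul (a (Additive.ofMul x)) : E) : G) =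
      ((Additive.toMul (b (Additive.ofMul x)) : E) : G)) → a = b := by
    intro a b h
    ext x
    exact h (Additive.toMul x)
  let f : Subgroup.normalizer (E : Set G) →* AddMonoid.End (Additive E) :=
    { toFun := fun g => MonoidHom.toAdditive (E.normalizerMonoidHom g).toMonoidHom
      map_one' := by
        apply hext
        intro x
        change ((1 : Subgroup.normalizer (E : Set G)) : G) * x * ((1 : Subgroup.normalizer (E : Set G)) : G)⁻¹ = x
        simp only [_root_.OneMemClass.coe_one, _root_.one_mul, _root_.inv_one, _root_.mul_one]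
      map_mul' := fun g h => by
        apply hext
        intro x
        change ((g * h : Subgroup.normalizer (E : Set G)) : G) * x * ((g * h : Subgroup.normalizer (E : Set G)) : G)⁻¹ =
          g * (h * x * (h : G)⁻¹) * (g : G)⁻¹
        rw [Subgroup.coe_mul]
        group }
  have hf : ∀ (g : Subgroup.normalizer (E : Set G)) (x : E),
      ((Additive.toMul (f g (Additive.ofMul x)) : E) : G) = g * x * (g : G)⁻¹ := fun g x => rfl
  have h2 : (2 : AddMonoid.End (Additive E)) = 0 := by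
    rw [← one_add_one_eq_two]
    apply hext
    intro x
    exact hE x x.2
  have h3 : f ⟨s, hsN⟩ = 1 := by
    apply ring_aux h2 (c := f ⟨c, hcN⟩)
    · rw [← map_pow]
      have h4 : (⟨s, hsN⟩ : Subgroup.normalizer (E : Set G)) ^ 7 = 1 := Subtype.ext hs
      rw [h4, map_one]
    · apply hext
      intro x
      have hxc : c * x * c⁻¹ ∈ E := ((Subgroup.mem_normalizer_iff.1 hcN) x).1 x.2
      have hxcc : c * (c * x * c⁻¹) * c⁻¹ ∈ E := ((Subgroup.mem_normalizer_iff.1 hcN) _).1 hxc
      have h4 : (x : G) * (c * x * c⁻¹) * (c * (c * x * c⁻¹) * c⁻¹) = 1 := by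
        apply hno _ (E.mul_mem (E.mul_mem x.2 hxc) hxcc)
        have h5 : (x : G) * (c * x * c⁻¹) * (c * (c * x * c⁻¹) * c⁻¹) =
            (c * x * c⁻¹) * (c * (c * x * c⁻¹) * c⁻¹) * x := by
          have h6 := mul_comm x (⟨c * x * c⁻¹, hxc⟩ * ⟨c * (c * x * c⁻¹) * c⁻¹, hxcc⟩ : E)
          have h7 := congrArg Subtype.val h6
          simpa only [Subgroup.coe_mul, mul_assoc] using h7
        have h6 : c * ((x : G) * (c * x * c⁻¹) * (c * (c * x * c⁻¹) * c⁻¹)) =
            (c * x * c⁻¹) * (c * (c * x * c⁻¹) * c⁻¹) * (c ^ 3 * x * (c ^ 3)⁻¹) * c := by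
          group
        rw [h6, hc, inv_one, mul_one, one_mul, ← h5]
      exact h4
    · rw [← map_mul, ← map_mul, ← map_mul]
      exact congrArg f (Subtype.ext hcs)
  intro x hx
  have h4 := hf ⟨s, hsN⟩ ⟨x, hx⟩
  rw [h3] at h4
  have h5 : x = s * x * s⁻¹ := h4
  exact (eq_mul_inv_iff_mul_eq.1 h5).symm

end Cfsg.Agent.H865.U3Frob
end

-- part: H862/M24EightTwelve
section
/-!
# No square of an element of order 8 of `M24` is a cube of an element of order 12

The square of an element of order 8 has cycle type `1^4 2^2 4^4`; an element of order 3 commuting with it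
would fix at least seven points.
-/

set_option autoImplicit false

namespace Cfsg.Agent.H862.M24EightTwelve

open Cfsg Cfsg.Agent.SporadicA.GolayBase Cfsg.Agent.SporadicA.GolayPerm
open Cfsg.Agent.SporadicStructure.M24El Cfsg.Agent.H865.Three Cfsg.Agent.H865.ThreeClasses
open Cfsg.Agent.H860.Two24 Cfsg.Agent.H860.Two24Data
open scoped Pointwise

/-- a permutation whose cube is 1 has a fixed point on an invariant set of size prime to 3 -/
theorem exists_fixed {α : Type*} [DecidableEq α] {y : Equiv.Perm α}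
    (hy : y ^ 3 = 1) (s : Finset α) (hs : ∀ a, a ∈ s ↔ y a ∈ s) (hc : ¬ 3 ∣ s.card) :
    ∃ a ∈ s, y a = a := by
  have : Fact (Nat.Prime 3) := ⟨Nat.prime_three⟩
  let σ : Equiv.Perm {a // a ∈ s} := y.subtypePerm (fun a => (hs a).symm)
  have hσ : σ ^ 3 ^ 1 = 1 := by
    rw [pow_one]
    apply Equiv.ext
    intro a
    apply Subtype.ext
    have h1 : ((σ ^ 3) a : α) = (y ^ 3) (a : α) := rfl
    rw [h1, hy]
    rfl
  have hcard : ¬ 3 ∣ Fintype.card {a // a ∈ s} := by
    rw [Fintype.card_coe]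
    exact hc
  obtain ⟨a, ha⟩ := Equiv.Perm.exists_fixed_point_of_prime hcard hσ
  exact ⟨a, a.2, congrArg Subtype.val ha⟩

/-- the packed square of the representative of order 8 -/
def Q : ℕ := pcomp (rp.getD 6 idP) (rp.getD 6 idP)

theorem okQ : ok Q = true := by decide +kernel

/-- points fixed by `Q` -/
def s1 : Finset GolayPt := Finset.univ.filter fun p => papp Q (idx p) = idx p

/-- points in 2-cycles of `Q` -/
def s2 : Finset GolayPt := Finset.univ.filter fun p =>
  papp Q (idx p) ≠ idx p ∧ papp Q (papp Q (idx p)) = idx p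

/-- points in 4-cycles of `Q` -/
def s4 : Finset GolayPt := Finset.univ.filter fun p => papp Q (papp Q (idx p)) ≠ idx p

theorem order_rp (j : ℕ) (hj : j ≠ 6) : el (rp.getD j idP) ^ 4 = 1 := by
  have hok := ok_getD rp_ok j
  have h : pcomp (pcomp (rp.getD j idP) (rp.getD j idP)) (pcomp (rp.getD j idP) (rp.getD j idP)) = idP := by
    by_cases h7 : j < 7
    · have : ∀ j < 7, j ≠ 6 → pcomp (pcomp (rp.getD j idP) (rp.getD j idP))
        (pcomp (rp.getD j idP) (rp.getD j idP)) = idP := by decide +kernel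
      exact this j h7 hj
    · have e : rp.getD j idP = idP := by
        have h3 : rp.length ≤ j := by
          have : rp.length = 7 := rfl
          omega
        rw [List.getD_eq_getElem?_getD, List.getElem?_eq_none h3]
        rfl
      rw [e]
      decide +kernel
  have h2 := congrArg el h
  rw [el_pcomp (ok_pcomp hok hok) (ok_pcomp hok hok), el_pcomp hok hok, el_idP] at h2
  rw [← h2, pow_succ, pow_succ, pow_two]
  group

theorem ncard_fx_le {y : M24} (hy : orderOf y = 3) : (fx (Subgroup.zpowers y)).ncard ≤ 6 := by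
  obtain ⟨c, hc⟩ := conj_of_orderOf hy
  have h1 := ncard_fx_conj c (Subgroup.zpowers y)
  rw [conj_smul_zpowers] at h1
  rcases hc with hc | hc
  · rw [hc, ncard_fx_A] at h1
    omega
  · rw [hc, ncard_fx_B] at h1
    omega

theorem seven : ∀ a ∈ s1, ∀ b ∈ s2, ∀ c ∈ s4,
    (({a, b, pt (papp Q (idx b)), c, pt (papp Q (idx c)), pt (papp Q (papp Q (idx c))),
      pt (papp Q (papp Q (papp Q (idx c))))} : Finset GolayPt)).card = 7 := by
  decide +kernel

theorem cards : s1.card = 4 ∧ s2.card = 4 ∧ s4.card = 16 := by decide +kernel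

theorem pt_papp (p : GolayPt) : pt (papp Q (idx p)) = el Q • p := (el_smul_pt okQ p).symm

theorem pt_papp2 (p : GolayPt) : pt (papp Q (papp Q (idx p))) = el Q • el Q • p := by
  rw [el_smul_pt okQ (el Q • p), idx_el_smul okQ]

theorem pt_papp3 (p : GolayPt) : pt (papp Q (papp Q (papp Q (idx p)))) = el Q • el Q • el Q • p := by
  rw [el_smul_pt okQ (el Q • el Q • p), idx_el_smul okQ, idx_el_smul okQ]

theorem mem_s1 {p : GolayPt} : p ∈ s1 ↔ el Q • p = p := by
  unfold s1
  rw [Finset.mem_filter, ← idx_el_smul okQ]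
  simp only [Finset.mem_univ, true_and]
  exact ⟨fun h => idx_injective h, fun h => by rw [h]⟩

theorem mem_s2 {p : GolayPt} : p ∈ s2 ↔ el Q • p ≠ p ∧ el Q • el Q • p = p := by
  unfold s2
  rw [Finset.mem_filter, ← idx_el_smul okQ, ← idx_el_smul okQ]
  simp only [Finset.mem_univ, true_and]
  exact ⟨fun h => ⟨fun h1 => h.1 (by rw [h1]), idx_injective h.2⟩,
    fun h => ⟨fun h1 => h.1 (idx_injective h1), by rw [h.2]⟩⟩

theorem mem_s4 {p : GolayPt} : p ∈ s4 ↔ el Q • el Q • p ≠ p := by
  unfold s4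
  rw [Finset.mem_filter, ← idx_el_smul okQ, ← idx_el_smul okQ]
  simp only [Finset.mem_univ, true_and]
  exact ⟨fun h => fun h1 => h (by rw [h1]), fun h => fun h1 => h (idx_injective h1)⟩

theorem smul_comm_pt {y : M24} (hy : y * el Q = el Q * y) (p : GolayPt) :
    el Q • y • p = y • el Q • p := by
  rw [smul_smul, smul_smul, hy]

/-- no element of order 3 commutes with the square of the representative of order 8 -/
theorem no_commute {y : M24} (h3 : orderOf y = 3) (hy : y * el Q = el Q * y) : False := by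
  have hc := smul_comm_pt hy
  have hinj : ∀ p q : GolayPt, y • p = y • q ↔ p = q := fun p q => smul_left_cancel_iff y
  have hy3 : (y : Equiv.Perm GolayPt) ^ 3 = 1 := by
    have h := pow_orderOf_eq_one y
    rw [h3] at h
    have h2 := congrArg Subtype.val h
    exact h2
  have hfix : ∀ p : GolayPt, (y : Equiv.Perm GolayPt) p = y • p := fun p => rfl
  obtain ⟨a, ha, ha'⟩ := exists_fixed hy3 s1 (fun p => by
    rw [hfix, mem_s1, mem_s1, hc, hinj]) (by rw [cards.1]; norm_num)
  obtain ⟨b, hb, hb'⟩ := exists_fixed hy3 s2 (fun p => by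
    rw [hfix, mem_s2, mem_s2, hc, hc, ne_eq, ne_eq, hinj, hinj]) (by rw [cards.2.1]; norm_num)
  obtain ⟨c, hc1, hc'⟩ := exists_fixed hy3 s4 (fun p => by
    rw [hfix, mem_s4, mem_s4, hc, hc, ne_eq, ne_eq, hinj]) (by rw [cards.2.2]; norm_num)
  rw [hfix] at ha' hb' hc'
  have h7 := seven a ha b hb c hc1
  have hsub : ((({a, b, pt (papp Q (idx b)), c, pt (papp Q (idx c)), pt (papp Q (papp Q (idx c))),
      pt (papp Q (papp Q (papp Q (idx c))))} : Finset GolayPt)) : Set GolayPt) ⊆
      fx (Subgroup.zpowers y) := by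
    intro p hp
    rw [mem_fx_zpowers, hfix]
    rw [pt_papp, pt_papp, pt_papp2, pt_papp3] at hp
    simp only [Finset.coe_insert, Finset.coe_singleton, Set.mem_insert_iff,
      Set.mem_singleton_iff] at hp
    rcases hp with rfl | rfl | rfl | rfl | rfl | rfl | rfl
    · exact ha'
    · exact hb'
    · rw [← hc, hb']
    · exact hc'
    · rw [← hc, hc']
    · rw [← hc, ← hc, hc']
    · rw [← hc, ← hc, ← hc, hc']
  have h8 := Set.ncard_le_ncard hsub (Set.toFinite _)
  rw [Set.ncard_coe_finset, h7] at h8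
  have h9 := ncard_fx_le h3
  omega

/-- In `M24` the square of an element of order 8 is never the cube of an element of order 12. -/
theorem m24_no (h g : M24) (hh : orderOf h = 8) (hg : orderOf g = 12) : h ^ 2 ≠ g ^ 3 := by
  intro he
  have h8 : h ^ 2 ^ 3 = 1 := by
    have := pow_orderOf_eq_one h
    rwa [hh] at this
  obtain ⟨c, j, hj⟩ := two_conj h8
  have hj6 : j = 6 := by
    by_contra hne
    have h4 := order_rp j hne
    rw [← hj, conj_pow, conj_eq_one_iff] at h4
    have := orderOf_dvd_of_pow_eq_one h4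
    rw [hh] at this
    omega
  rw [hj6] at hj
  have hQ : el Q = c * g ^ 3 * c⁻¹ := by
    unfold Q
    rw [el_pcomp (ok_getD rp_ok 6) (ok_getD rp_ok 6), ← hj, ← he, pow_two]
    group
  refine no_commute (y := c * g ^ 4 * c⁻¹) ?_ ?_
  · have h1 : orderOf (c * g ^ 4 * c⁻¹) = orderOf (g ^ 4) := by
      have := MulEquiv.orderOf_eq (MulAut.conj c) (g ^ 4)
      simpa only [_root_.MulAut.conj_apply] using this
    rw [h1, orderOf_pow' g (by norm_num), hg]
    norm_num
  · rw [hQ]
    have e1 : c * g ^ 4 * c⁻¹ * (c * g ^ 3 * c⁻¹) = c * (g ^ 4 * g ^ 3) * c⁻¹ := by group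
    have e2 : c * g ^ 3 * c⁻¹ * (c * g ^ 4 * c⁻¹) = c * (g ^ 3 * g ^ 4) * c⁻¹ := by group
    rw [e1, e2, ← pow_add, ← pow_add]

/-- The same in any copy of `M24`. -/
theorem iso_no {G : Type*} [Group G] (hG : Spor.IsoM24 G) (h g : G) (hh : orderOf h = 8)
    (hg : orderOf g = 12) : h ^ 2 ≠ g ^ 3 := by
  obtain ⟨e⟩ := hG
  intro he
  refine m24_no (e h) (e g) ?_ ?_ ?_
  · rw [MulEquiv.orderOf_eq, hh]
  · rw [MulEquiv.orderOf_eq, hg]
  · rw [← map_pow, ← map_pow, he]

end Cfsg.Agent.H862.M24EightTwelve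
end

-- part: H865/U3Sys
section
/-!
# The overgroups of a subgroup `U₃(3)` of the fourth Janko group

An abstract form: `Sys act s1 s2 c w yy h l k g tt v1` collects the relations of the generators and the
key property of the fixed vectors.
-/

set_option autoImplicit false

namespace Cfsg.Agent.H865.U3Sys

open Cfsg Subgroup
open Cfsg.Agent.OrdDiv
open Cfsg.Agent.H866.J4Ord Cfsg.Agent.H866.J4Min Cfsg.Agent.H866.OddTools Cfsg.Agent.H866.J4Odd
open Cfsg.Agent.OddOrderLocal.SylIn Cfsg.Agent.OddOrderLocal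

universe u

/-- the relations -/
structure Sys {G : Type u} [Group G] {V : Type} [AddCommGroup V] (act : V → G → V)
    (s1 s2 c w yy h l k g tt : G) (v1 : V) : Prop where
  act_mul : ∀ (m : V) (a b : G), act m (a * b) = act (act m a) b
  act_one : ∀ m : V, act m 1 = m
  act_add : ∀ (m n : V) (a : G), act (m + n) a = act m a + act n a
  v2 : ∀ m : V, m + m = 0
  fin : Finite V
  even : 2 ∣ Nat.card V
  v1_ne : v1 ≠ 0
  v1_s1 : act v1 s1 = v1
  v1_s2 : act v1 s2 = v1
  v1_y : ∃ y : G, act v1 y ≠ v1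
  s1_pow : s1 ^ 7 = 1
  s2_pow : s2 ^ 7 = 1
  s1_ne : s1 ≠ 1
  s2_ne : s2 ≠ 1
  c_mem : c ∈ _root_.Subgroup.closure {s1, s2}
  w_mem : w ∈ closure {s1, s2}
  yy_mem : yy ∈ closure {s1, s2}
  h_mem : h ∈ closure {s1, s2}
  l_mem : l ∈ closure {s1, s2}
  g_mem : g ∈ closure {s1, s2}
  tt_mem : tt ∈ closure {s1, s2}
  k_eq : k = l * l
  c_pow : c ^ 3 = 1
  c_s1 : c * s1 = s1 * s1 * c
  rel : H859.Heis.Rel 3 c yy w
  h_c : h * c = c * yy * yy * h
  h_yy : h * yy = c * yy * w * h
  h_w : h * w = w * w * h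
  h_pow : h ^ 8 = 1
  h_ne : h ^ 4 ≠ 1
  k_sq : k * k = 1
  k_h : k * h = h ^ 5 * k
  l_h : l * h = h ^ 7 * k * l
  g_cube : g ^ 3 = h ^ 2
  g_pow : g ^ 12 = 1
  g_ne : g ^ 4 ≠ 1
  w_s1 : w * s1 ≠ s1 * w
  tt_s1 : tt * s1 = s2 * tt
  key : ∀ v : G, v * v = 1 → v ≠ 1 → v * c = c * v → ∀ m : V, act m h = m → act m l = m → act m v = m →
    act (act m s2) v = act m s2 → m = 0

variable {G : Type u} [Group G] [Finite G] {V : Type} [AddCommGroup V] {act : V → G → V}
  {s1 s2 c w yy h l k g tt : G} {v1 : V}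

/-- in a finite group -/
theorem mem_normalizer_of_conj_le {A : Subgroup G} {x : G} (hx : ∀ a ∈ A, x * a * x⁻¹ ∈ A) :
    x ∈ normalizer (A : Set G) := by
  have h2 : A.map (MulAut.conj x).toMonoidHom = A := by
    apply Subgroup.eq_of_le_of_card_ge
    · rintro _ ⟨a, ha, rfl⟩
      exact hx a ha
    · exact (Nat.card_congr (A.equivMapOfInjective (MulAut.conj x).toMonoidHom
        (MulAut.conj x).injective).toEquiv).le
  rw [Subgroup.mem_normalizer_iff_map_conj_eq]
  exact h2

namespace Sys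

/-- the 2-subgroup -/
def T0 (_ : Sys act s1 s2 c w yy h l k g tt v1) : Subgroup G := zpowers l ⊔ (zpowers k ⊔ zpowers h)

theorem k_mem (S : Sys act s1 s2 c w yy h l k g tt v1) : k ∈ _root_.Subgroup.closure {s1, s2} := by
  rw [S.k_eq]
  exact mul_mem S.l_mem S.l_mem

theorem T0_le (S : Sys act s1 s2 c w yy h l k g tt v1) : S.T0 ≤ _root_.Subgroup.closure {s1, s2} :=
  sup_le (zpowers_le.2 S.l_mem) (sup_le (zpowers_le.2 S.k_mem) (zpowers_le.2 S.h_mem))

theorem isPGroup_zpowers {x : G} {n : ℕ} (hx : x ^ 2 ^ n = 1) : IsPGroup 2 (zpowers x) := by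
  have h1 : orderOf x ∣ 2 ^ n := orderOf_dvd_of_pow_eq_one hx
  obtain ⟨j, -, hj⟩ := (Nat.dvd_prime_pow Nat.prime_two).1 h1
  exact IsPGroup.of_card (n := j) (by rw [Nat.card_zpowers, hj])

theorem T0_isPGroup (S : Sys act s1 s2 c w yy h l k g tt v1) : IsPGroup 2 S.T0 := by
  have hk : k ∈ normalizer (zpowers h : Set G) := by
    apply mem_normalizer_of_conj_le
    rintro _ ⟨n, rfl⟩
    show k * h ^ n * k⁻¹ ∈ _
    rw [← conj_zpow, S.k_h, mul_inv_cancel_right]
    exact zpow_mem (pow_mem (mem_zpowers h) 5) n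
  have h1 : IsPGroup 2 (zpowers k ⊔ zpowers h : Subgroup G) :=
    IsPGroup.to_sup_of_normal_right' (isPGroup_zpowers (n := 1) (by rw [pow_one, pow_two]; exact S.k_sq))
      (isPGroup_zpowers (n := 3) S.h_pow) (zpowers_le.2 hk)
  have hkm : k ∈ zpowers k ⊔ zpowers h := mem_sup_left (mem_zpowers k)
  have hhm : h ∈ zpowers k ⊔ zpowers h := mem_sup_right (mem_zpowers h)
  have hl : l ∈ normalizer ((zpowers k ⊔ zpowers h : Subgroup G) : Set G) := by
    apply mem_normalizer_of_conj_le
    have h3 : l * k * l⁻¹ ∈ zpowers k ⊔ zpowers h := by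
      have h3 : l * k * l⁻¹ = k := by rw [S.k_eq]; group
      rw [h3]
      exact hkm
    have h4 : l * h * l⁻¹ ∈ zpowers k ⊔ zpowers h := by
      rw [S.l_h, mul_inv_cancel_right]
      exact mul_mem (pow_mem hhm 7) hkm
    have h2 : zpowers k ⊔ zpowers h ≤ (zpowers k ⊔ zpowers h).comap (MulAut.conj l).toMonoidHom :=
      sup_le (zpowers_le.2 h3) (zpowers_le.2 h4)
    exact fun a ha => h2 ha
  refine IsPGroup.to_sup_of_normal_right' (isPGroup_zpowers (n := 2) ?_) h1 (zpowers_le.2 hl)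
  have h3 : l ^ 2 ^ 2 = (l * l) * (l * l) := by
    show l ^ 4 = _
    simp only [pow_succ, pow_zero, one_mul, mul_assoc]
  rw [h3, ← S.k_eq, S.k_sq]

theorem act_zero (S : Sys act s1 s2 c w yy h l k g tt v1) (a : G) : act 0 a = 0 := by
  have h1 := S.act_add 0 0 a
  rw [add_zero] at h1
  exact left_eq_add.1 h1

/-- a 2-subgroup fixes a vector -/
theorem exists_vec (S : Sys act s1 s2 c w yy h l k g tt v1) {Q : Subgroup G} (hQ : IsPGroup 2 Q) :
    ∃ m : V, m ≠ 0 ∧ ∀ q ∈ Q, act m q = m := by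
  have := S.fin
  have : Fact (Nat.Prime 2) := ⟨Nat.prime_two⟩
  let _ : MulAction Q V :=
    { smul := fun q m => act m (q : G)⁻¹
      one_smul := fun m => by
        show act m ((1 : Q) : G)⁻¹ = m
        rw [coe_one, inv_one, S.act_one]
      mul_smul := fun a b m => by
        show act m ((a * b : Q) : G)⁻¹ = act (act m (b : G)⁻¹) (a : G)⁻¹
        rw [coe_mul, mul_inv_rev, S.act_mul] }
  have hsm : ∀ (q : Q) (m : V), q • m = act m (q : G)⁻¹ := fun _ _ => rfl
  have h0 : (0 : V) ∈ MulAction.fixedPoints Q V := fun q => by rw [hsm, S.act_zero]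
  obtain ⟨m, hm, hne⟩ := hQ.exists_fixed_point_of_prime_dvd_card_of_fixed_point V S.even h0
  refine ⟨m, hne.symm, fun q hq => ?_⟩
  have h1 := hm ⟨q⁻¹, Q.inv_mem hq⟩
  rw [hsm] at h1
  rwa [inv_inv] at h1

/-- **no 2-local overgroups** -/
theorem no_local (S : Sys act s1 s2 c w yy h l k g tt v1) {E : Subgroup G} (hE1 : E ≠ ⊥)
    (hE : ∀ x ∈ E, x * x = 1) (hn : _root_.Subgroup.closure {s1, s2} ≤ normalizer (E : Set G)) : False := by
  by_cases hno : ∀ x ∈ E, c * x = x * c → x = 1
  · have h1 := U3Frob.exists_fixed hE S.s1_pow S.c_pow S.c_s1 (hn (_root_.Subgroup.subset_closure (by simp))) (hn S.c_mem) hno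
    have h2 : ∀ x ∈ E, s2 * x = x * s2 := by
      intro x hx
      have h3 := h1 (tt⁻¹ * x * tt) (by
        have h4 := ((mem_normalizer_iff.1 ((normalizer (E : Set G)).inv_mem (hn S.tt_mem))) x).1 hx
        rwa [inv_inv] at h4)
      have h4 : s2 = tt * s1 * tt⁻¹ := by rw [S.tt_s1, mul_inv_cancel_right]
      calc s2 * x = tt * (s1 * (tt⁻¹ * x * tt)) * tt⁻¹ := by rw [h4]; group
        _ = x * s2 := by rw [h3, h4]; group
    have h3 : _root_.Subgroup.closure {s1, s2} ≤ centralizer (E : Set G) := by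
      rw [closure_le]
      rintro _ (rfl | rfl)
      · exact mem_centralizer_iff.2 fun x hx => (h1 x hx).symm
      · exact mem_centralizer_iff.2 fun x hx => (h2 x hx).symm
    apply hE1
    rw [eq_bot_iff]
    intro x hx
    rw [mem_bot]
    exact hno x hx ((mem_centralizer_iff.1 (h3 S.c_mem)) x hx).symm
  · push Not at hno
    obtain ⟨v, hv, hvc, hv1⟩ := hno
    have hEp : IsPGroup 2 E := fun x => ⟨1, Subtype.ext (by
      rw [pow_one, pow_two]
      exact hE x x.2)⟩
    obtain ⟨m, hm, hf⟩ := S.exists_vec (IsPGroup.to_sup_of_normal_right' S.T0_isPGroup hEp (S.T0_le.trans hn))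
    refine hm (S.key v (hE v hv) hv1 hvc.symm m ?_ ?_ ?_ ?_)
    · exact hf h (mem_sup_left (mem_sup_right (mem_sup_right (mem_zpowers h))))
    · exact hf l (mem_sup_left (mem_sup_left (mem_zpowers l)))
    · exact hf v (mem_sup_right hv)
    · have h1 : s2 * v * s2⁻¹ ∈ E := ((mem_normalizer_iff.1 (hn (_root_.Subgroup.subset_closure (by simp)))) v).1 hv
      have h2 := hf _ (mem_sup_right h1)
      rw [← S.act_mul]
      have h3 : s2 * v = s2 * v * s2⁻¹ * s2 := by group
      rw [h3, S.act_mul, h2]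

end Sys

end Cfsg.Agent.H865.U3Sys
end

-- part: H865/U3Over
section
/-!
# The proper overgroups of the subgroup `⟨s₁, s₂⟩`

`Sys.component` : a proper subgroup containing `⟨s₁, s₂⟩` normalizes a simple subgroup of order 6048 containing it.
-/

set_option autoImplicit false

namespace Cfsg.Agent.H865.U3Sys

open Cfsg Subgroup
open Cfsg.Agent.OrdDiv
open Cfsg.Agent.H866.J4Ord Cfsg.Agent.H866.J4Min Cfsg.Agent.H866.OddTools Cfsg.Agent.H866.J4Odd
open Cfsg.Agent.OddOrderLocal.SylIn Cfsg.Agent.OddOrderLocal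
open Cfsg.Agent.H859

universe u

/-- the normalizers of the Sylow 3-subgroups -/
def N27 (G : Type u) [Group G] : Prop :=
  ∀ P : Subgroup G, Nat.card P = 27 → Nat.card (normalizer (P : Set G)) = 864

theorem ords_189 : ∀ n ∈ ords, 27 ∣ n → 7 ∣ n → n = 6048 ∨ n = 244823040 ∨ n = nJ := by decide +kernel

theorem ords_not7 : ∀ n ∈ ords, ¬ 7 ∣ n → n = 60 ∨ n = 360 ∨
    ∃ q ∈ [11, 31, 37], q ∣ n ∧ ¬ q ^ 2 ∣ n := by decide +kernel

theorem names_m24 : ∀ x ∈ names, x.2 = 244823040 → x.1 = Grp.m24 := by decide +kernel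

variable {G : Type u} [Group G] [Finite G] {V : Type} [AddCommGroup V] {act : V → G → V}
  {s1 s2 c w yy h l k g tt : G} {v1 : V}

/-- the centralizers of the elements of order 7 -/
theorem card_cent7 (F : Facts G) {S : Subgroup G} (hS : Nat.card S = 7) :
    Nat.card (centralizer (S : Set G)) = 840 := by
  obtain ⟨h1, h2⟩ := F.n7 S hS
  omega

theorem card_zpowers7 {s : G} (hs : s ^ 7 = 1) (hs1 : s ≠ 1) : Nat.card (zpowers s) = 7 := by
  have : Fact (Nat.Prime 7) := ⟨by norm_num⟩
  rw [Nat.card_zpowers, orderOf_eq_prime hs hs1]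

theorem isPGroup7 {S : Subgroup G} (hS : Nat.card S = 7) : IsPGroup 7 S :=
  IsPGroup.of_card (n := 1) (by rw [hS, pow_one])

/-- a subgroup of prime order whose square does not divide `|G|` lies in the normal subgroups of order
divisible by this prime -/
theorem le_of_dvd (F : Facts G) {p : ℕ} (hp : p.Prime) (hp2 : ¬ p ^ 2 ∣ nJ) {P R : Subgroup G}
    (hP : Nat.card P = p) (hn : P ≤ normalizer (R : Set G)) (hd : p ∣ Nat.card R) : P ≤ R := by
  have h1 := Subgroup.card_dvd_of_le (inf_le_left : P ⊓ R ≤ P)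
  rw [hP] at h1
  rcases (Nat.dvd_prime hp).1 h1 with h2 | h2
  · exfalso
    have h3 := StdL2.G23Coset.card_sup_mul_card_inf hn
    rw [h2, mul_one, hP] at h3
    apply hp2
    refine dvd_trans ?_ (F.dvd (P ⊔ R))
    rw [h3, pow_two]
    exact Nat.mul_dvd_mul_left p hd
  · exact inf_eq_left.1 (Subgroup.eq_of_le_of_card_ge inf_le_left (by rw [hP, h2]))

/-- the intersection with the centralizer of an element of order 7 -/
theorem cent_pow (F : Facts G) {S R : Subgroup G} (hS : Nat.card S = 7) (hn : S ≤ normalizer (R : Set G))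
    {r j : ℕ} (hr : r.Prime) (hR : Nat.card R = r ^ j) : ∃ i ≤ j, r ^ j % 7 = r ^ i % 7 ∧ r ^ i ∣ 840 ∧
      Nat.card (R ⊓ centralizer (S : Set G) : Subgroup G) = r ^ i := by
  have : Fact (Nat.Prime 7) := ⟨by norm_num⟩
  have h1 := card_mod (isPGroup7 hS) hn
  have h2 := Subgroup.card_dvd_of_le (inf_le_left : R ⊓ centralizer (S : Set G) ≤ R)
  rw [hR] at h2
  obtain ⟨i, hi, h3⟩ := (Nat.dvd_prime_pow hr).1 h2
  have h4 := Subgroup.card_dvd_of_le (inf_le_right : R ⊓ centralizer (S : Set G) ≤ centralizer (S : Set G))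
  rw [card_cent7 F hS, h3] at h4
  rw [h3, hR] at h1
  exact ⟨i, hi, h1, h4, h3⟩

theorem le_cent (F : Facts G) {S R : Subgroup G} (hS : Nat.card S = 7) (hn : S ≤ normalizer (R : Set G))
    {r j : ℕ} (hr : r.Prime) (hR : Nat.card R = r ^ j)
    (h : ∀ i ≤ j, r ^ j % 7 = r ^ i % 7 → r ^ i ∣ 840 → i = j) : R ≤ centralizer (S : Set G) := by
  obtain ⟨i, hi, h1, h2, h3⟩ := cent_pow F hS hn hr hR
  rw [h i hi h1 h2, ← hR] at h3
  exact inf_eq_left.1 (Subgroup.eq_of_le_of_card_ge inf_le_left h3.ge)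

namespace Sys

theorem card_gp (S : Sys act s1 s2 c w yy h l k g tt v1) : Nat.card (Heis.gp S.rel) = 27 := by
  have : Fact (Nat.Prime 3) := ⟨Nat.prime_three⟩
  exact Heis.card S.rel

theorem gp_le (S : Sys act s1 s2 c w yy h l k g tt v1) : Heis.gp S.rel ≤ _root_.Subgroup.closure {s1, s2} :=
  Heis.gp_le S.rel S.c_mem S.yy_mem S.w_mem

theorem dvd27 (S : Sys act s1 s2 c w yy h l k g tt v1) {H : Subgroup G} (hH : _root_.Subgroup.closure {s1, s2} ≤ H) :
    27 ∣ Nat.card H := by
  rw [← S.card_gp]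
  exact Subgroup.card_dvd_of_le (S.gp_le.trans hH)

theorem z1_le (S : Sys act s1 s2 c w yy h l k g tt v1) : zpowers s1 ≤ _root_.Subgroup.closure {s1, s2} :=
  zpowers_le.2 (_root_.Subgroup.subset_closure (by simp))

theorem z2_le (S : Sys act s1 s2 c w yy h l k g tt v1) : zpowers s2 ≤ _root_.Subgroup.closure {s1, s2} :=
  zpowers_le.2 (_root_.Subgroup.subset_closure (by simp))

theorem dvd7 (S : Sys act s1 s2 c w yy h l k g tt v1) {H : Subgroup G} (hH : _root_.Subgroup.closure {s1, s2} ≤ H) :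
    7 ∣ Nat.card H := by
  rw [← card_zpowers7 S.s1_pow S.s1_ne]
  exact Subgroup.card_dvd_of_le (S.z1_le.trans hH)

/-- a subgroup centralized by both generators -/
theorem closure_le_cent (S : Sys act s1 s2 c w yy h l k g tt v1) {R : Subgroup G}
    (h1 : R ≤ centralizer (zpowers s1 : Set G)) (h2 : R ≤ centralizer (zpowers s2 : Set G)) :
    _root_.Subgroup.closure {s1, s2} ≤ centralizer (R : Set G) := by
  rw [closure_le]
  rintro _ (rfl | rfl)
  · exact (Subgroup.le_centralizer_iff.1 h1) (mem_zpowers _)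
  · exact (Subgroup.le_centralizer_iff.1 h2) (mem_zpowers _)

/-- `P` is the only subgroup of order a power of 3 between it and its normalizer -/
theorem le_gp (S : Sys act s1 s2 c w yy h l k g tt v1) (F : Facts G) {R : Subgroup G} (hR : IsPGroup 3 R)
    (hn : R ≤ normalizer (Heis.gp S.rel : Set G)) : R ≤ Heis.gp S.rel := by
  have : Fact (Nat.Prime 3) := ⟨Nat.prime_three⟩
  have h1 : IsPGroup 3 (R ⊔ Heis.gp S.rel : Subgroup G) :=
    IsPGroup.to_sup_of_normal_right' hR (Heis.isPGroup S.rel) hn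
  obtain ⟨j, hj⟩ := IsPGroup.iff_card.1 h1
  have h2 : j ≤ 3 := by
    by_contra h3
    have h4 : 3 ^ 4 ∣ nJ := (pow_dvd_pow 3 (by omega)).trans (hj ▸ F.dvd (R ⊔ Heis.gp S.rel))
    norm_num [nJ] at h4
  have h3 : Nat.card (R ⊔ Heis.gp S.rel : Subgroup G) ≤ Nat.card (Heis.gp S.rel) := by
    rw [hj, S.card_gp]
    exact Nat.pow_le_pow_right (by norm_num) h2
  have h4 := Subgroup.eq_of_le_of_card_ge (le_sup_right : Heis.gp S.rel ≤ R ⊔ Heis.gp S.rel) h3
  rw [h4]
  exact le_sup_left

/-- no elementary abelian normal subgroup -/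
theorem no_abelian (S : Sys act s1 s2 c w yy h l k g tt v1) (F : Facts G) (N : N27 G) {R : Subgroup G}
    (hR : R ≠ ⊥) (hn : _root_.Subgroup.closure {s1, s2} ≤ normalizer (R : Set G)) {r : ℕ} (hr : r.Prime)
    (h : IsElementaryAbelian r R) : False := by
  have f3 : Fact (Nat.Prime 3) := ⟨Nat.prime_three⟩
  have hS1 := card_zpowers7 S.s1_pow S.s1_ne
  have hS2 := card_zpowers7 S.s2_pow S.s2_ne
  have hn1 := S.z1_le.trans hn
  have hn2 := S.z2_le.trans hn
  have hN27 : 27 ∣ Nat.card (normalizer (R : Set G)) := S.dvd27 hn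
  have hN7 : 7 ∣ Nat.card (normalizer (R : Set G)) := S.dvd7 hn
  obtain ⟨x, hx, j, hj1, hj2, -, hxr, hj⟩ := F.ea_card hR hr h
  rw [hxr] at hj
  by_cases hr2 : r = 2
  · subst hr2
    refine S.no_local hR (fun x hx => ?_) hn
    have h1 := h.2 x hx
    rwa [pow_two] at h1
  -- the primes for which `R` is centralized
  have hcent : (∀ i ≤ j, r ^ j % 7 = r ^ i % 7 → r ^ i ∣ 840 → i = j) → _root_.Subgroup.closure {s1, s2} ≤ centralizer (R : Set G) :=
    fun h0 => S.closure_le_cent (le_cent F hS1 hn1 hr hj h0) (le_cent F hS2 hn2 hr hj h0)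
  have hP : closure {s1, s2} ≤ centralizer (R : Set G) → R ≤ centralizer (Heis.gp S.rel : Set G) := fun h0 =>
    Subgroup.le_centralizer_iff.1 (S.gp_le.trans h0)
  simp only [lJ, List.mem_cons, List.not_mem_nil, or_false] at hx
  rcases hx with rfl | rfl | rfl | rfl | rfl | rfl | rfl | rfl | rfl | rfl
  · exact hr2 hxr.symm
  · -- `r = 3`
    have hxr' : 3 = r := hxr
    have hj2' : j ≤ 3 := hj2
    subst hxr'
    have h1 : _root_.Subgroup.closure {s1, s2} ≤ centralizer (R : Set G) := hcent (by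
      clear hcent hj hxr hj2
      interval_cases j <;> decide)
    have h2 := hP h1
    have h3 : R ≤ Heis.gp S.rel := S.le_gp F (fun x => ⟨1, by
      rw [pow_one]; exact Subtype.ext (h.2 x x.2)⟩) (h2.trans (Subgroup.centralizer_le_normalizer _))
    have h4 : R ≤ zpowers w := fun x hx =>
      Heis.center_le S.rel (h3 hx) fun y hy => ((mem_centralizer_iff.1 (h2 hx)) y hy).symm
    have h5 : Nat.card (zpowers w) ≤ Nat.card R := by
      rw [Nat.card_zpowers, Heis.orderOf_w S.rel, hj]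
      exact Nat.le_self_pow (by omega) 3
    have h6 : w ∈ R := by
      rw [Subgroup.eq_of_le_of_card_ge h4 h5]
      exact mem_zpowers w
    exact S.w_s1 ((mem_centralizer_iff.1 (h1 (_root_.Subgroup.subset_closure (by simp)))) w h6)
  · -- `r = 5`
    have hxr' : 5 = r := hxr
    have hj2' : j ≤ 1 := hj2
    subst hxr'
    obtain rfl : j = 1 := by omega
    have h1 : _root_.Subgroup.closure {s1, s2} ≤ centralizer (R : Set G) := hcent (by decide)
    have h2 := Subgroup.card_dvd_of_le ((hP h1).trans (Subgroup.centralizer_le_normalizer _))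
    rw [N _ S.card_gp, hj] at h2
    norm_num at h2
  · -- `r = 7`
    have hxr' : 7 = r := hxr
    have hj2' : j ≤ 1 := hj2
    subst hxr'
    obtain rfl : j = 1 := by omega
    rw [(F.n7 R (by rw [hj, pow_one])).1] at hN27
    norm_num at hN27
  · -- `r = 11`
    have hxr' : 11 = r := hxr
    have hj2' : j ≤ 3 := hj2
    subst hxr'
    obtain ⟨i, hi, h1, h2, -⟩ := cent_pow F hS1 hn1 hr hj
    have h3 : i = 0 := by
      by_contra h0
      have h4 := (dvd_pow_self 11 h0).trans h2
      norm_num at h4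
    subst h3
    have h4 : j = 3 := by
      clear hcent hj hj2 hxr
      interval_cases j
      · norm_num at h1
      · norm_num at h1
      · rfl
    subst h4
    rw [F.n11 R hj] at hN7
    norm_num at hN7
  · -- `r = 23`
    have hxr' : 23 = r := hxr
    have hj2' : j ≤ 1 := hj2
    subst hxr'
    obtain rfl : j = 1 := by omega
    obtain ⟨i, hi, h1, h2, -⟩ := cent_pow F hS1 hn1 hr hj
    interval_cases i
    · norm_num at h1
    · norm_num at h2
  · -- `r = 29`
    have hxr' : 29 = r := hxr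
    have hj2' : j ≤ 1 := hj2
    subst hxr'
    obtain rfl : j = 1 := by omega
    rw [F.n29 R (by rw [hj, pow_one])] at hN27
    norm_num at hN27
  · -- `r = 31`
    have hxr' : 31 = r := hxr
    have hj2' : j ≤ 1 := hj2
    subst hxr'
    obtain rfl : j = 1 := by omega
    obtain ⟨i, hi, h1, h2, -⟩ := cent_pow F hS1 hn1 hr hj
    interval_cases i
    · norm_num at h1
    · norm_num at h2
  · -- `r = 37`
    have hxr' : 37 = r := hxr
    have hj2' : j ≤ 1 := hj2
    subst hxr'
    obtain rfl : j = 1 := by omega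
    obtain ⟨i, hi, h1, h2, -⟩ := cent_pow F hS1 hn1 hr hj
    interval_cases i
    · norm_num at h1
    · norm_num at h2
  · -- `r = 43`
    have hxr' : 43 = r := hxr
    have hj2' : j ≤ 1 := hj2
    subst hxr'
    obtain rfl : j = 1 := by omega
    rw [F.n43 R (by rw [hj, pow_one])] at hN27
    norm_num at hN27

theorem order_g (S : Sys act s1 s2 c w yy h l k g tt v1) : orderOf g = 12 := by
  have h1 : orderOf g ∣ 12 := orderOf_dvd_of_pow_eq_one S.g_pow
  have h2 : ∀ n : ℕ, n ∣ 4 → orderOf g ≠ n := by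
    rintro n hn rfl
    exact S.g_ne (orderOf_dvd_iff_pow_eq_one.1 hn)
  have h3 : ∀ n : ℕ, n ∣ 6 → orderOf g ≠ n := by
    rintro n hn rfl
    have h4 := orderOf_dvd_iff_pow_eq_one.1 hn
    have h5 : g ^ 6 = (g ^ 3) ^ 2 := by rw [← pow_mul]
    rw [h5, S.g_cube, ← pow_mul] at h4
    exact S.h_ne h4
  have h4 : ∀ n ∈ Nat.divisors 12, ¬ n ∣ 4 → ¬ n ∣ 6 → n = 12 := by decide
  exact h4 _ (Nat.mem_divisors.2 ⟨h1, by norm_num⟩) (fun h5 => h2 _ h5 rfl) (fun h5 => h3 _ h5 rfl)

/-- an invariant Sylow subgroup centralized by both elements of order 7 -/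
theorem dvd_cent (F : Facts G) {T R : Subgroup G} (hT : Nat.card T = 7) (hn : T ≤ normalizer (R : Set G))
    (h7 : ¬ 7 ∣ Nat.card R) {q a : ℕ} (hq : q.Prime) (hR1 : q ^ a ∣ Nat.card R) (hR2 : ¬ q ^ (a + 1) ∣ Nat.card R)
    (h : ∀ i ≤ a, q ^ a % 7 = q ^ i % 7 → i = a) :
    q ^ a ∣ Nat.card (R ⊓ centralizer (T : Set G) : Subgroup G) := by
  have : Fact q.Prime := ⟨hq⟩
  have hR : (Nat.card R).factorization q = a := by
    apply le_antisymm
    · by_contra h0
      push Not at h0
      exact hR2 ((Nat.pow_dvd_pow q h0).trans (Nat.ordProj_dvd _ _))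
    · exact (hq.pow_dvd_iff_le_factorization Nat.card_pos.ne').1 hR1
  have : Fact (Nat.Prime 7) := ⟨by norm_num⟩
  obtain ⟨Q, hQ⟩ := Lib.CoprimeHyperplane.exists_invariant_sylow (isPGroup7 hT) hn h7 q
  have h1 : Nat.card ((Q : Subgroup R).map R.subtype : Subgroup G) = q ^ a := by
    rw [Subgroup.card_map_of_injective R.subtype_injective, Q.card_eq_multiplicity, hR]
  have h2 := le_cent F hT hQ hq h1 fun i hi h3 _ => h i hi h3
  rw [← h1]
  exact Subgroup.card_dvd_of_le (le_inf (Subgroup.map_subtype_le _) h2)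

/-- **the components of the proper overgroups** -/
theorem component (S : Sys act s1 s2 c w yy h l k g tt v1) (F : Facts G) (N : N27 G) {H : Subgroup G}
    (hU : _root_.Subgroup.closure {s1, s2} ≤ H) (hH : H ≠ ⊤) : ∃ R : Subgroup G, R ≤ H ∧ H ≤ normalizer (R : Set G) ∧
      IsSimpleGroup R ∧ (¬ ∀ a b : R, a * b = b * a) ∧ Nat.card R = 6048 ∧ closure {s1, s2} ≤ R := by
  have f7 : Fact (Nat.Prime 7) := ⟨by norm_num⟩
  have f2 : Fact (Nat.Prime 2) := ⟨Nat.prime_two⟩
  have hS1 := card_zpowers7 S.s1_pow S.s1_ne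
  have hS2 := card_zpowers7 S.s2_pow S.s2_ne
  have hH1 : H ≠ ⊥ := by
    rintro rfl
    exact S.s1_ne (mem_bot.1 (hU (_root_.Subgroup.subset_closure (by simp))))
  obtain ⟨R, hRH, hR, hn, -, hcase⟩ := exists_min F.tab F.known (F.card ▸ dvd_rfl) H hH1
  have hUn := hU.trans hn
  rcases hcase with ⟨r, hr, hea⟩ | ⟨h1, h2, h3⟩
  · exact (S.no_abelian F N hR hUn hr hea).elim
  by_cases h7 : 7 ∣ Nat.card R
  · have h72 : ¬ 7 ^ 2 ∣ nJ := by norm_num [nJ]
    have hle1 := le_of_dvd F f7.out h72 hS1 (S.z1_le.trans hUn) h7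
    have hle2 := le_of_dvd F f7.out h72 hS2 (S.z2_le.trans hUn) h7
    have hle : _root_.Subgroup.closure {s1, s2} ≤ R := by
      rw [closure_le]
      rintro _ (rfl | rfl)
      · exact hle1 (mem_zpowers _)
      · exact hle2 (mem_zpowers _)
    rcases ords_189 _ h3 (S.dvd27 hle) h7 with h4 | h4 | h4
    · exact ⟨R, hRH, hn, h1, h2, h4, hle⟩
    · exfalso
      obtain ⟨x, hx, hr, hxc⟩ := exists_name F.tab (F.known R) h2 (F.dvd R)
      rw [names_m24 x hx (by rw [← hxc, h4])] at hr
      refine H862.M24EightTwelve.iso_no (G := R) hr ⟨h, hle S.h_mem⟩ ⟨g, hle S.g_mem⟩ ?_ ?_ ?_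
      · rw [Subgroup.orderOf_mk]
        exact orderOf_eq_prime_pow (p := 2) (n := 2) S.h_ne S.h_pow
      · rw [Subgroup.orderOf_mk]
        exact S.order_g
      · exact Subtype.ext S.g_cube.symm
    · exact absurd (top_le_iff.1 (F.eq_top h4 ▸ hRH)) hH
  · exfalso
    have hn1 := S.z1_le.trans hUn
    have hn2 := S.z2_le.trans hUn
    rcases ords_not7 _ h3 h7 with h4 | h4 | ⟨q, hq, hqd, hq2⟩
    · have hc : ∀ T : Subgroup G, Nat.card T = 7 → T ≤ normalizer (R : Set G) → R ≤ centralizer (T : Set G) := by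
        intro T hT hTn
        have e2 := dvd_cent F hT hTn h7 (q := 2) (a := 2) (by norm_num) (by rw [h4]; norm_num)
          (by rw [h4]; norm_num) (by decide)
        have e3 := dvd_cent F hT hTn h7 (q := 3) (a := 1) (by norm_num) (by rw [h4]; norm_num)
          (by rw [h4]; norm_num) (by decide)
        have e5 := dvd_cent F hT hTn h7 (q := 5) (a := 1) (by norm_num) (by rw [h4]; norm_num)
          (by rw [h4]; norm_num) (by decide)
        have e6 : 60 ∣ Nat.card (R ⊓ centralizer (T : Set G) : Subgroup G) := by omega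
        have e7 := Nat.le_of_dvd Nat.card_pos e6
        exact inf_eq_left.1 (Subgroup.eq_of_le_of_card_ge inf_le_left (by rw [h4]; exact e7))
      have h5 := S.closure_le_cent (hc _ hS1 hn1) (hc _ hS2 hn2)
      obtain ⟨t, ht⟩ := exists_prime_orderOf_dvd_card' (G := R) 2 (by rw [h4]; norm_num)
      have ht2 : (t : G) ^ 2 = 1 := by
        rw [← ht, ← Subgroup.orderOf_coe, pow_orderOf_eq_one]
      refine S.no_local (E := zpowers (t : G)) ?_ ?_ ?_
      · rw [Ne, zpowers_eq_bot]
        intro h6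
        rw [← Subgroup.orderOf_coe, h6, orderOf_one] at ht
        norm_num at ht
      · rintro _ ⟨n, rfl⟩
        show (t : G) ^ n * (t : G) ^ n = 1
        rw [← (Commute.refl (t : G)).mul_zpow n, ← pow_two, ht2, one_zpow]
      · refine (h5.trans ?_).trans (Subgroup.centralizer_le_normalizer _)
        exact centralizer_le (by
          rintro _ ⟨n, rfl⟩
          exact zpow_mem t.2 n)
    · have e3 := dvd_cent F hS1 hn1 h7 (q := 3) (a := 2) (by norm_num) (by rw [h4]; norm_num)
        (by rw [h4]; norm_num) (by decide)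
      have e4 := e3.trans (Subgroup.card_dvd_of_le inf_le_right)
      rw [card_cent7 F hS1] at e4
      norm_num at e4
    · have hqp : q.Prime ∧ ¬ 7 ∣ q - 1 ∧ ¬ q ∣ 840 := by
        simp only [List.mem_cons, List.not_mem_nil, or_false] at hq
        rcases hq with rfl | rfl | rfl <;> norm_num
      obtain ⟨Y, -, hY, hYc⟩ := exists_cent (isPGroup7 hS1) hn1 h7 hqp.1 hqd hq2 hqp.2.1
      apply hqp.2.2
      rw [← hY, ← card_cent7 F hS1]
      exact Subgroup.card_dvd_of_le hYc

end Sys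

end Cfsg.Agent.H865.U3Sys
end

-- part: H865/U3Max
section
/-!
# The subgroup `⟨s₁, s₂⟩` is maximal, of order 6048 and isomorphic to `U₃(3)`
-/

set_option autoImplicit false

namespace Cfsg.Agent.H865.U3Sys

open Cfsg Subgroup
open Cfsg.Agent.OrdDiv
open Cfsg.Agent.H866.J4Ord Cfsg.Agent.H866.J4Min Cfsg.Agent.H866.OddTools Cfsg.Agent.H866.J4Odd
open Cfsg.Agent.OddOrderLocal.SylIn Cfsg.Agent.OddOrderLocal
open Cfsg.Agent.H859

universe u

theorem names_psu3 : ∀ x ∈ names, x.2 = 6048 → x.1 = Grp.psu 3 3 := by decide +kernel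

variable {G : Type u} [Group G] [Finite G] {V : Type} [AddCommGroup V] {act : V → G → V}
  {s1 s2 c w yy h l k g tt : G} {v1 : V}

namespace Sys

theorem fix_v1 (S : Sys act s1 s2 c w yy h l k g tt v1) : ∀ u ∈ _root_.Subgroup.closure {s1, s2}, act v1 u = v1 := by
  intro u hu
  induction hu using Subgroup.closure_induction with
  | mem x hx =>
    rcases hx with rfl | rfl
    · exact S.v1_s1
    · exact S.v1_s2
  | one => exact S.act_one _
  | mul a b _ _ ha hb => rw [S.act_mul, ha, hb]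
  | inv a _ ha =>
    conv_lhs => rw [← ha]
    rw [← S.act_mul, mul_inv_cancel, S.act_one]

theorem ne_top (S : Sys act s1 s2 c w yy h l k g tt v1) : _root_.Subgroup.closure {s1, s2} ≠ ⊤ := by
  intro h0
  obtain ⟨y, hy⟩ := S.v1_y
  exact hy (S.fix_v1 y (h0 ▸ mem_top y))

/-- no involution commuting with `c` normalizes `⟨s₁, s₂⟩` -/
theorem no_inv (S : Sys act s1 s2 c w yy h l k g tt v1) {y : G} (hy : y * y = 1) (hy1 : y ≠ 1)
    (hyc : y * c = c * y) (hn : y ∈ normalizer ((_root_.Subgroup.closure {s1, s2} : Subgroup G) : Set G)) : False := by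
  by_cases h0 : act v1 y = v1
  · exact S.v1_ne (S.key y hy hy1 hyc v1 (S.fix_v1 h S.h_mem) (S.fix_v1 l S.l_mem) h0 (by rw [S.v1_s2, h0]))
  · have h1 : ∀ u ∈ _root_.Subgroup.closure {s1, s2}, act (v1 + act v1 y) u = v1 + act v1 y := by
      intro u hu
      have h2 : y * u * y⁻¹ ∈ closure {s1, s2} := ((mem_normalizer_iff.1 hn) u).1 hu
      rw [S.act_add, S.fix_v1 u hu, ← S.act_mul]
      have h3 : y * u = y * u * y⁻¹ * y := by group
      rw [h3, S.act_mul, S.fix_v1 _ h2]
    have h2 : act (v1 + act v1 y) y = v1 + act v1 y := by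
      rw [S.act_add, ← S.act_mul, hy, S.act_one, add_comm]
    have h3 := S.key y hy hy1 hyc _ (h1 h S.h_mem) (h1 l S.l_mem) h2 (by
      rw [h1 s2 (_root_.Subgroup.subset_closure (by simp)), h2])
    apply h0
    have h4 := S.v2 v1
    rw [← h3] at h4
    exact (add_left_cancel h4).symm

theorem isSyl3 (S : Sys act s1 s2 c w yy h l k g tt v1) (F : Facts G) {H : Subgroup G}
    (hH : _root_.Subgroup.closure {s1, s2} ≤ H) : haveI : Fact (Nat.Prime 3) := ⟨Nat.prime_three⟩; IsSyl 3 (Heis.gp S.rel) H := by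
  have f3 : Fact (Nat.Prime 3) := ⟨Nat.prime_three⟩
  refine ⟨S.gp_le.trans hH, Heis.isPGroup S.rel, fun h0 => ?_⟩
  have h1 := card_mul_relIndex (S.gp_le.trans hH)
  rw [S.card_gp] at h1
  obtain ⟨d, hd⟩ := h0
  have h2 : 81 ∣ Nat.card H := ⟨d, by rw [← h1, hd]; ring⟩
  have h3 := h2.trans (F.dvd H)
  norm_num [nJ] at h3

theorem h_norm (S : Sys act s1 s2 c w yy h l k g tt v1) : h ∈ normalizer (Heis.gp S.rel : Set G) := by
  have f3 : Fact (Nat.Prime 3) := ⟨Nat.prime_three⟩
  have hc := Heis.a_mem S.rel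
  have hy := Heis.b_mem S.rel
  have hw := Heis.w_mem S.rel
  apply Heis.mem_normalizer S.rel
  · rw [S.h_c, mul_inv_cancel_right]
    exact mul_mem (mul_mem hc hy) hy
  · rw [S.h_yy, mul_inv_cancel_right]
    exact mul_mem (mul_mem hc hy) hw
  · rw [S.h_w, mul_inv_cancel_right]
    exact mul_mem hw hw

theorem dvd216 (S : Sys act s1 s2 c w yy h l k g tt v1) :
    216 ∣ Nat.card (normalizer (Heis.gp S.rel : Set G) ⊓ _root_.Subgroup.closure {s1, s2} : Subgroup G) := by
  have h1 : 27 ∣ Nat.card (normalizer (Heis.gp S.rel : Set G) ⊓ _root_.Subgroup.closure {s1, s2} : Subgroup G) := by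
    rw [← S.card_gp]
    exact Subgroup.card_dvd_of_le (le_inf Subgroup.le_normalizer S.gp_le)
  have h2 : 8 ∣ Nat.card (normalizer (Heis.gp S.rel : Set G) ⊓ closure {s1, s2} : Subgroup G) := by
    have h3 : orderOf h = 8 := orderOf_eq_prime_pow (p := 2) (n := 2) S.h_ne S.h_pow
    rw [← h3, ← Nat.card_zpowers]
    exact Subgroup.card_dvd_of_le (zpowers_le.2 (mem_inf.2 ⟨S.h_norm, S.h_mem⟩))
  omega

/-- the centralizer of `c` in a subgroup of `N(P)` of order at least 432 has even order -/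
theorem exists_inv (S : Sys act s1 s2 c w yy h l k g tt v1) (F : Facts G) (N : N27 G) {M : Subgroup G}
    (hM : M ≤ normalizer (Heis.gp S.rel : Set G)) (hc : 432 ≤ Nat.card M) :
    ∃ y ∈ M, y * y = 1 ∧ y ≠ 1 ∧ y * c = c * y := by
  have f3 : Fact (Nat.Prime 3) := ⟨Nat.prime_three⟩
  set P := Heis.gp S.rel with hP
  have hcP : c ∈ P := Heis.a_mem S.rel
  have hyP : yy ∈ P := Heis.b_mem S.rel
  let _ : MulAction M P := MulAction.compHom P (P.normalizerMonoidHom.comp (Subgroup.inclusion hM))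
  have hsm : ∀ (u : M) (x : P), ((u • x : P) : G) = (u : G) * x * (u : G)⁻¹ := fun u x => rfl
  let c' : P := ⟨c, hcP⟩
  have h1 := Subgroup.card_mul_index (MulAction.stabilizer M c')
  rw [MulAction.index_stabilizer] at h1
  -- the orbit
  have h2 : (MulAction.orbit M c').ncard ≤ 24 := by
    have h3 : MulAction.orbit M c' ⊆ (((zpowers w).subgroupOf P : Subgroup P) : Set P)ᶜ := by
      rintro _ ⟨u, rfl⟩ h4
      have h5 : (u : G) * c * (u : G)⁻¹ ∈ zpowers w := h4
      have h6 : ∀ x ∈ P, x * ((u : G) * c * (u : G)⁻¹) = ((u : G) * c * (u : G)⁻¹) * x := by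
        intro x hx
        obtain ⟨n, hn⟩ := h5
        have h7 : Commute x (w ^ n) := Commute.zpow_right (show x * w = w * x from (Heis.w_comm S.rel hx).symm) n
        have h8 : w ^ n = (u : G) * c * (u : G)⁻¹ := hn
        rw [← h8]
        exact h7.eq
      have h7 := h6 ((u : G) * yy * (u : G)⁻¹) (((mem_normalizer_iff.1 (hM u.2)) yy).1 hyP)
      apply Heis.not_comm S.rel
      have h8 : (u : G) * (yy * c) * (u : G)⁻¹ = (u : G) * (c * yy) * (u : G)⁻¹ := by
        calc (u : G) * (yy * c) * (u : G)⁻¹ = (u : G) * yy * (u : G)⁻¹ * ((u : G) * c * (u : G)⁻¹) := by group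
          _ = _ := by rw [h7]; group
      exact mul_left_cancel (mul_right_cancel h8)
    have h4 := Set.ncard_le_ncard h3 (Set.toFinite _)
    have h5 := Set.ncard_add_ncard_compl (((zpowers w).subgroupOf P : Subgroup P) : Set P)
    have h6 : (((zpowers w).subgroupOf P : Subgroup P) : Set P).ncard = 3 := by
      have h7 : zpowers w ≤ P := zpowers_le.2 (Heis.w_mem S.rel)
      have h8 := Nat.card_congr (Subgroup.subgroupOfEquivOfLe h7).toEquiv
      rw [Nat.card_zpowers, Heis.orderOf_w S.rel] at h8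
      exact h8
    rw [h6, S.card_gp] at h5
    omega
  have h3 : 18 ≤ Nat.card (MulAction.stabilizer M c') := by
    by_contra h0
    have h4 : Nat.card (MulAction.stabilizer M c') * (MulAction.orbit M c').ncard ≤ 17 * 24 :=
      Nat.mul_le_mul (by omega) h2
    omega
  set T : Subgroup G := (MulAction.stabilizer M c').map M.subtype with hT
  have hTc : Nat.card T = Nat.card (MulAction.stabilizer M c') :=
    Subgroup.card_map_of_injective M.subtype_injective
  have hTM : T ≤ M := Subgroup.map_subtype_le _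
  have hTcent : ∀ y ∈ T, y * c = c * y := by
    rintro _ ⟨u, hu, rfl⟩
    have h4 : u • c' = c' := hu
    have h5 := congrArg Subtype.val h4
    rw [hsm] at h5
    exact mul_inv_eq_iff_eq_mul.1 h5
  by_cases heven : 2 ∣ Nat.card T
  · have f2 : Fact (Nat.Prime 2) := ⟨Nat.prime_two⟩
    obtain ⟨y, hy⟩ := exists_prime_orderOf_dvd_card' (G := T) 2 heven
    have hy' : orderOf (y : G) = 2 := by rw [Subgroup.orderOf_coe, hy]
    refine ⟨y, hTM y.2, ?_, ?_, hTcent y y.2⟩
    · rw [← pow_two, ← hy', pow_orderOf_eq_one]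
    · intro h4
      rw [h4, orderOf_one] at hy'
      norm_num at hy'
  · exfalso
    have h4 : Nat.card T ∣ 864 := by
      rw [← N _ S.card_gp]
      exact Subgroup.card_dvd_of_le (hTM.trans hM)
    have h5 : Nat.card T = 27 := by
      have h6 : ∀ n ∈ Nat.divisors 864, ¬ 2 ∣ n → 18 ≤ n → n = 27 := by decide +kernel
      exact h6 _ (Nat.mem_divisors.2 ⟨h4, by norm_num⟩) heven (hTc ▸ h3)
    have h6 : T ≤ P := S.le_gp F (IsPGroup.of_card (n := 3) (by rw [h5]; norm_num)) (hTM.trans hM)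
    have h7 : T = P := Subgroup.eq_of_le_of_card_ge h6 (by rw [h5, S.card_gp])
    exact Heis.not_comm S.rel (hTcent yy (h7 ▸ hyP))

/-- **the subgroup is maximal** -/
theorem main (S : Sys act s1 s2 c w yy h l k g tt v1) (F : Facts G) (N : N27 G) :
    ∃ M : Subgroup G, IsCoatom M ∧ ∃ (F : Type) (_ : Field F) (_ : Fintype F),
      Fintype.card F = 9 ∧ Nonempty (M ≃* Cfsg.PSU 3 F 3) := by
  have f3 : Fact (Nat.Prime 3) := ⟨Nat.prime_three⟩
  obtain ⟨R, hR1, -, hR3, hR4, hR5, hR6⟩ := S.component F N le_rfl S.ne_top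
  obtain rfl : R = _root_.Subgroup.closure {s1, s2} := le_antisymm hR1 hR6
  refine ⟨_root_.Subgroup.closure {s1, s2}, ⟨S.ne_top, fun H hH => ?_⟩, ?_⟩
  · by_contra hHT
    obtain ⟨K, hK1, hK2, -, -, hK5, hK6⟩ := S.component F N hH.le hHT
    have hK : closure {s1, s2} = K := Subgroup.eq_of_le_of_card_ge hK6 (by rw [hK5, hR5])
    rw [← hK] at hK2
    have h1 := frattini_card hH.le hK2 (S.isSyl3 F le_rfl)
    have h2 := S.dvd216
    have h3 : Nat.card (normalizer (Heis.gp S.rel : Set G) ⊓ closure {s1, s2} : Subgroup G) ∣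
        Nat.card (normalizer (Heis.gp S.rel : Set G) ⊓ H : Subgroup G) :=
      Subgroup.card_dvd_of_le (inf_le_inf_left _ hH.le)
    obtain ⟨y, hy, hy2, hy1, hyc⟩ := S.exists_inv F N
      (M := normalizer (Heis.gp S.rel : Set G) ⊓ H) inf_le_left (by
        obtain ⟨d, hd⟩ := h3
        obtain ⟨e, he⟩ := h2
        have h4 : d ≠ 0 := by
          rintro rfl
          rw [mul_zero] at hd
          exact Nat.card_pos.ne' hd
        have h5 : e ≠ 0 := by
          rintro rfl
          rw [mul_zero] at he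
          exact Nat.card_pos.ne' he
        have h6 : d ≠ 1 := by
          rintro rfl
          rw [mul_one] at hd
          rw [hd] at h1
          have h7 := Nat.eq_of_mul_eq_mul_right Nat.card_pos h1
          exact absurd (Subgroup.eq_of_le_of_card_ge hH.le h7.le) hH.ne
        rw [hd, he]
        have h7 : 1 ≤ e := by omega
        have h8 : 2 ≤ d := by omega
        calc 432 = 216 * 1 * 2 := by norm_num
          _ ≤ 216 * e * d := Nat.mul_le_mul (Nat.mul_le_mul_left _ h7) h8)
    exact S.no_inv hy2 hy1 hyc (hK2 hy.2)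
  · obtain ⟨x, hx, hr, hxc⟩ := exists_name F.tab (F.known (_root_.Subgroup.closure {s1, s2} : Subgroup G)) hR4 (F.dvd _)
    rw [names_psu3 x hx (by rw [← hxc, hR5])] at hr
    obtain ⟨F', i1, i2, h1, ⟨ε⟩⟩ := hr
    exact ⟨F', i1, i2, h1, ⟨ε⟩⟩

end Sys

end Cfsg.Agent.H865.U3Sys
end

private theorem dce_863781920761 : _root_.True := by
  try have : _root_.True := by simp only [_root_.Cfsg.Agent.H866.J4Ord.lJ.eq_1]
  exact _root_.True.intro
end

-- part: H866/J4UData
section
set_option linter.all false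
open scoped Cfsg.Agent.FastGrp

/-!
# A proper subgroup of `J4` containing a dihedral group of order 74 and more (helper866)

The stabilizer of the vector `vU` of the module of dimension 112 over the field of two elements contains
`x`, the involution `a`, the product `x * a` of order 37 and the element `h` not normalizing `⟨x * a⟩`; it does
not contain `y`.
-/

set_option autoImplicit false

open Cfsg

namespace Cfsg.Agent.H866.J4UData

open Cfsg.Agent.Lib Cfsg.Agent.Lib.F2MatGroup
open Cfsg.Agent.J4.Rep112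
open Cfsg.Agent.H858.VK

/-- the program: `a`, `h`, `g = x * a`, `g ^ 6` -/
def slp : List (List ℕ) := [
  [2, 3, 2, 0, 2, 0, 1, 0, 1, 3, 1],
  [2, 1, 3, 1, 2, 1, 2, 1, 3, 1, 2, 1, 2, 1, 3, 4, 2, 1, 3, 1, 3, 1, 2, 1, 3, 1, 3, 1, 2, 1, 3],
  [2, 1],
  [0, 0, 0, 0, 0, 0]]

/-- the equations: `x ^ 2 = a ^ 2 = g ^ 37 = 1` -/
def es : List (List ℕ × List ℕ) := [([4, 4], []), ([3, 3], []), ([2, 2], []), ([0, 0, 0, 0, 0, 0, 1], [])]

/-- `g ≠ 1` and `h g h` does not commute with `g` -/
def ns : List (List ℕ × List ℕ) := [([1], []), ([2, 1, 2, 1], [1, 2, 1, 2])]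

/-- the vector -/
def vU : ℕ := 3062311451959887602280563791989517

/-- the check of the vectors -/
def vchk (L : List ℕ) : Bool :=
  Nat.beq (F2Mat.vmul 112 vU (get (F2Mat.one 112) L 4)) vU &&
  Nat.beq (F2Mat.vmul 112 vU (get (F2Mat.one 112) L 3)) vU &&
  Nat.beq (F2Mat.vmul 112 vU (get (F2Mat.one 112) L 2)) vU &&
  !(Nat.beq (F2Mat.vmul 112 vU (get (F2Mat.one 112) L 5)) vU)

theorem check : run 112 slp codes
    (fun L => cond (eqs 112 es L) (cond (neqs 112 ns L) (vchk L) false) false) = true := by decide +kernel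

/-- the environment: `g ^ 6, g, h, a, x, y, y⁻¹, t` -/
noncomputable def LX : List Cfsg.Spor.J4 := runG slp gens

/-- the elements -/
noncomputable def g : Cfsg.Spor.J4 := getG LX 1
noncomputable def h : Cfsg.Spor.J4 := getG LX 2
noncomputable def a : Cfsg.Spor.J4 := getG LX 3

/-- `b` fixes the vector `v` -/
def Fixes (v : ℕ) (b : Cfsg.Spor.J4) : Prop :=
  Matrix.vecMul (F2Mat.toVec 112 v) ((rho b : GL (Fin 112) (ZMod 2)) : Matrix (Fin 112) (Fin 112) (ZMod 2)) =
    F2Mat.toVec 112 v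

theorem map_LX : LX.map rho = runG slp (gens.map rho) := by
  unfold LX
  rw [runG_map]

theorem sound : (∀ p ∈ es, evG LX p.1 = evG LX p.2) ∧ (∀ p ∈ ns, evG LX p.1 ≠ evG LX p.2) ∧
    Fixes vU (getG LX 4) ∧ Fixes vU a ∧ Fixes vU h ∧ ¬ Fixes vU (getG LX 5) := by
  obtain ⟨L', h', hk⟩ := run_sound codes_gens check
  have h'' : List.Forall₂ (Codes 112) (LX.map rho) L' := by rw [map_LX]; exact h'
  rcases hb : eqs 112 es L' with _ | _
  · rw [hb] at hk; exact absurd hk Bool.false_ne_true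
  rw [hb] at hk
  rcases hc : neqs 112 ns L' with _ | _
  · rw [hc] at hk; exact absurd hk Bool.false_ne_true
  rw [hc] at hk
  have hk' : vchk L' = true := hk
  refine ⟨fun p hp => ?_, fun p hp => ?_, ?_⟩
  · apply rho_injective
    rw [← evG_map, ← evG_map]
    exact eqs_sound h'' hb p hp
  · intro h0
    have h1 := congrArg rho h0
    rw [← evG_map, ← evG_map] at h1
    exact neqs_sound (by norm_num) h'' hc p hp h1
  · have key : ∀ i, rho (getG LX i) = rho (getG LX i) ∧
        Matrix.vecMul (F2Mat.toVec 112 vU)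
          ((rho (getG LX i) : GL (Fin 112) (ZMod 2)) : Matrix (Fin 112) (Fin 112) (ZMod 2)) =
          F2Mat.toVec 112 (F2Mat.vmul 112 vU (get (F2Mat.one 112) L' i)) := by
      intro i
      have h3 := codes_get h'' i
      rw [getG_map] at h3
      unfold Codes at h3
      exact ⟨rfl, by rw [h3, ← F2Mat.toVec_vmul]⟩
    unfold vchk at hk'
    simp only [Bool.and_eq_true, Bool.not_eq_true'] at hk'
    obtain ⟨⟨⟨h1, h2⟩, h3⟩, h4⟩ := hk'
    refine ⟨?_, ?_, ?_, ?_⟩
    · unfold Fixes
      rw [(key 4).2, Nat.eq_of_beq_eq_true h1]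
    · unfold Fixes a
      rw [(key 3).2, Nat.eq_of_beq_eq_true h2]
    · unfold Fixes h
      rw [(key 2).2, Nat.eq_of_beq_eq_true h3]
    · unfold Fixes
      rw [(key 5).2]
      intro h5
      have h6 := F2Mat.toVec_inj (F2Mat.vmul_lt vU _) (by norm_num [vU]) h5
      rw [h6, Nat.beq_refl] at h4
      exact absurd h4 (by decide)

theorem x_sq : getG LX 4 * getG LX 4 = 1 := by
  have := sound.1 _ (List.mem_cons_self)
  simpa [evG] using this

theorem a_sq : a * a = 1 := by
  have := sound.1 ([3, 3], []) (by simp [es])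
  simpa [evG, a] using this

theorem h_sq : h * h = 1 := by
  have := sound.1 ([2, 2], []) (by simp [es])
  simpa [evG, h] using this

theorem g_eq : g = getG LX 4 * a := by
  unfold g a LX slp
  rfl

theorem g_pow : g ^ 37 = 1 := by
  have h1 := sound.1 ([0, 0, 0, 0, 0, 0, 1], []) (by simp [es])
  have h2 : getG LX 0 = g ^ 6 := by
    have h3 : getG LX 0 = g * (g * (g * (g * (g * (g * 1))))) := rfl
    rw [h3]
    simp only [mul_one, pow_succ, pow_zero, one_mul, mul_assoc]
  have h3 : (g ^ 6) * ((g ^ 6) * ((g ^ 6) * ((g ^ 6) * ((g ^ 6) * ((g ^ 6) * (g * 1)))))) = 1 := by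
    rw [← h2]; exact h1
  rw [← h3]; group

theorem g_ne : g ≠ 1 := by
  have h1 := sound.2.1 ([1], []) (by simp [ns])
  intro h0
  apply h1
  change g * 1 = 1
  rw [h0, one_mul]

theorem order_g : orderOf g = 37 := by
  have : Fact (Nat.Prime 37) := ⟨by norm_num⟩
  exact orderOf_eq_prime g_pow g_ne

theorem not_comm : h * g * h * g ≠ g * h * g * h := by
  have h1 := sound.2.1 ([2, 1, 2, 1], [1, 2, 1, 2]) (by simp [ns])
  intro h0
  apply h1
  change h * (g * (h * (g * 1))) = g * (h * (g * (h * 1)))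
  simpa [mul_assoc] using h0

/-- the stabilizer of the vector -/
def S : Subgroup Cfsg.Spor.J4 where
  carrier := {b | Fixes vU b}
  one_mem' := by
    change Fixes vU 1
    unfold Fixes
    rw [map_one, Units.val_one, Matrix.vecMul_one]
  mul_mem' := by
    intro b c hb hc
    change Fixes vU (b * c)
    unfold Fixes at *
    rw [map_mul, Units.val_mul, ← Matrix.vecMul_vecMul]
    rw [show Matrix.vecMul (F2Mat.toVec 112 vU) ((rho b : GL (Fin 112) (ZMod 2)) :
      Matrix (Fin 112) (Fin 112) (ZMod 2)) = F2Mat.toVec 112 vU from hb]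
    exact hc
  inv_mem' := by
    intro b hb
    change Fixes vU b⁻¹
    unfold Fixes
    have hb' : Matrix.vecMul (F2Mat.toVec 112 vU) ((rho b : GL (Fin 112) (ZMod 2)) :
      Matrix (Fin 112) (Fin 112) (ZMod 2)) = F2Mat.toVec 112 vU := hb
    conv_lhs => rw [← hb']
    rw [Matrix.vecMul_vecMul, map_inv, Units.mul_inv, Matrix.vecMul_one]

theorem x_mem : getG LX 4 ∈ S := sound.2.2.1
theorem a_mem : a ∈ S := sound.2.2.2.1
theorem h_mem : h ∈ S := sound.2.2.2.2.1
theorem g_mem : g ∈ S := by rw [g_eq]; exact S.mul_mem x_mem a_mem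
theorem S_ne : S ≠ ⊤ := fun h0 => sound.2.2.2.2.2 (by
  have h1 : getG LX 5 ∈ (⊤ : Subgroup Cfsg.Spor.J4) := Subgroup.mem_top _
  rw [← h0] at h1
  exact h1)

end Cfsg.Agent.H866.J4UData

private theorem dce_7dc56610942b : _root_.True := by
  try have : _root_.True := by simp only [_root_.Cfsg.Agent.Lib.F2MatGroup.evG.eq_1]
  try have : _root_.True := by simp only [_root_.Cfsg.Agent.H866.J4UData.vU.eq_1]
  try have : _root_.True := by simp only [_root_.Cfsg.Agent.H866.J4UData.h.eq_1]
  try have : _root_.True := by simp only [_root_.Cfsg.Agent.Lib.F2MatGroup.evG.eq_2]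
  try have : _root_.True := by simp only [_root_.Cfsg.Agent.Lib.F2MatGroup.evG.eq_def]
  try have : _root_.True := by simp only [_root_.Cfsg.Agent.H866.J4UData.a.eq_1]
  try have : _root_.True := by simp only [_root_.Cfsg.Agent.H866.J4UData.ns.eq_1]
  try have : _root_.True := by simp only [_root_.Cfsg.Agent.H866.J4UData.es.eq_1]
  exact _root_.True.intro
end
end
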