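import Cfsg.Agent.H865.U3Data
import Cfsg.Agent.FastGrp
import Cfsg.Agent.Prune
set_option linter.all false
open scoped Cfsg.Agent.FastGrp

/-!
# The relations of `U3Data` in the group, and the key lemma on fixed vectors

`key` : an involution commuting with `c` fixes no vector `m ≠ 0` which is fixed by `h` and `l`, together with
`m s₂`.
-/

set_option autoImplicit false

namespace Cfsg.Agent.H865.U3Run

open Cfsg.Agent.Lib Cfsg.Agent.Lib.F2MatGroup Cfsg.Agent.Lib.F2Mat Cfsg.Agent.J4.Rep112 Cfsg.Agent.H858.VK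
open Cfsg.Agent.H865.U3Chk Cfsg.Agent.H865.U3Data

/-- the values -/
noncomputable def LX : List Cfsg.Spor.J4 := runG slp gens

noncomputable def s1 : Cfsg.Spor.J4 := getG LX i_s1
noncomputable def s2 : Cfsg.Spor.J4 := getG LX i_s2
noncomputable def c : Cfsg.Spor.J4 := getG LX i_c
noncomputable def w : Cfsg.Spor.J4 := getG LX i_w
noncomputable def yy : Cfsg.Spor.J4 := getG LX i_yy
noncomputable def h : Cfsg.Spor.J4 := getG LX i_h
noncomputable def l : Cfsg.Spor.J4 := getG LX i_l
noncomputable def g : Cfsg.Spor.J4 := getG LX i_g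
noncomputable def k : Cfsg.Spor.J4 := getG LX i_k
noncomputable def z : Cfsg.Spor.J4 := getG LX i_z
noncomputable def tt : Cfsg.Spor.J4 := getG LX i_tt

theorem map_LX : LX.map rho = runG slp (gens.map rho) := by
  unfold LX
  rw [runG_map]

theorem run_codes {f : List ℕ → Bool} (hf : run 112 slp codes f = true) :
    ∃ L', List.Forall₂ (Codes 112) (LX.map rho) L' ∧ f L' = true := by
  obtain ⟨L', h', hk⟩ := run_sound codes_gens hf
  exact ⟨L', by rw [map_LX]; exact h', hk⟩

theorem mat_getG {L' : List ℕ} (h : List.Forall₂ (Codes 112) (LX.map rho) L') (i : ℕ) :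
    mat (getG LX i) = toMat 112 (get (F2Mat.one 112) L' i) := by
  have h3 := codes_get h i
  rw [getG_map] at h3
  exact h3

theorem eqs_group {L' : List ℕ} (h : List.Forall₂ (Codes 112) (LX.map rho) L')
    {es : List (List ℕ × List ℕ)} (he : eqs 112 es L' = true) : ∀ p ∈ es, evG LX p.1 = evG LX p.2 := by
  intro p hp
  apply rho_injective
  rw [← evG_map, ← evG_map]
  exact eqs_sound h he p hp

theorem neqs_group {L' : List ℕ} (h : List.Forall₂ (Codes 112) (LX.map rho) L')
    {es : List (List ℕ × List ℕ)} (he : neqs 112 es L' = true) : ∀ p ∈ es, evG LX p.1 ≠ evG LX p.2 := by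
  intro p hp h0
  have h1 := congrArg rho h0
  rw [← evG_map, ← evG_map] at h1
  exact neqs_sound (by norm_num) h he p hp h1

theorem rel : (∀ p ∈ es, evG LX p.1 = evG LX p.2) ∧ (∀ p ∈ ns, evG LX p.1 ≠ evG LX p.2) := by
  obtain ⟨L', h', hk⟩ := run_codes check_rel
  obtain ⟨h1, h2⟩ := cond_true_of hk
  exact ⟨eqs_group h' h1, neqs_group h' h2⟩

theorem relU : (∀ p ∈ esU, evG LX p.1 = evG LX p.2) ∧ (∀ p ∈ esQ, evG LX p.1 = evG LX p.2) := by
  obtain ⟨L', h', hk⟩ := run_codes check_U
  obtain ⟨h1, h2⟩ := cond_true_of hk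
  exact ⟨eqs_group h' h1, eqs_group h' h2⟩

/-- relation number `n` -/
theorem rel_nth (n : ℕ) (hn : n < es.length) : evG LX (es[n]).1 = evG LX (es[n]).2 :=
  rel.1 _ (List.getElem_mem hn)

theorem nrel_nth (n : ℕ) (hn : n < ns.length) : evG LX (ns[n]).1 ≠ evG LX (ns[n]).2 :=
  rel.2 _ (List.getElem_mem hn)

theorem evG_rep (i n : ℕ) (v : List ℕ) : evG LX (List.replicate n i ++ v) = getG LX i ^ n * evG LX v := by
  induction n with
  | zero => simp
  | succ n ih => rw [List.replicate_succ, List.cons_append, evG_cons, ih, pow_succ', mul_assoc]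

theorem s1_pow : s1 ^ 7 = 1 := by
  have h := rel_nth 0 (by decide)
  have e : es[0] = (List.replicate 7 i_s1 ++ [], []) := rfl
  rw [e, evG_rep, evG_nil, mul_one] at h
  exact h

theorem s2_pow : s2 ^ 7 = 1 := by
  have h := rel_nth 1 (by decide)
  have e : es[1] = (List.replicate 7 i_s2 ++ [], []) := rfl
  rw [e, evG_rep, evG_nil, mul_one] at h
  exact h

/-- the subgroup -/
noncomputable def U0 : Subgroup Cfsg.Spor.J4 := Subgroup.closure {s1, s2}

theorem s1_mem : s1 ∈ U0 := Subgroup.subset_closure (by simp)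
theorem s2_mem : s2 ∈ U0 := Subgroup.subset_closure (by simp)

theorem word_mem (v : List ℕ) (hv : ∀ i ∈ v, i = i_s1 ∨ i = i_s2) : evG LX v ∈ U0 := by
  induction v with
  | nil => exact one_mem _
  | cons i v ih =>
    rw [evG_cons]
    refine mul_mem ?_ (ih fun j hj => hv j (List.mem_cons_of_mem _ hj))
    rcases hv i List.mem_cons_self with rfl | rfl
    · exact s1_mem
    · exact s2_mem

theorem mem_of_rel {i n : ℕ} (hn : n < es.length) (hi : (es[n]).1 = [i])
    (hv : ∀ j ∈ (es[n]).2, j = i_s1 ∨ j = i_s2) : getG LX i ∈ U0 := by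
  have h := rel_nth n hn
  rw [hi, evG_cons, evG_nil, mul_one] at h
  rw [h]
  exact word_mem _ hv

theorem c_mem : c ∈ U0 := mem_of_rel (n := 2) (by decide) rfl (by decide)
theorem w_mem : w ∈ U0 := mem_of_rel (n := 3) (by decide) rfl (by decide)
theorem yy_mem : yy ∈ U0 := mem_of_rel (n := 4) (by decide) rfl (by decide)
theorem h_mem : h ∈ U0 := mem_of_rel (n := 5) (by decide) rfl (by decide)
theorem l_mem : l ∈ U0 := mem_of_rel (n := 6) (by decide) rfl (by decide)
theorem g_mem : g ∈ U0 := mem_of_rel (n := 7) (by decide) rfl (by decide)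

theorem k_eq : k = l * l := by
  have h := rel_nth 8 (by decide)
  have e : es[8] = ([i_k], [i_l, i_l]) := rfl
  rw [e] at h
  simp only [evG_cons, evG_nil, mul_one] at h
  exact h

theorem c_pow : c ^ 3 = 1 := by
  have h := rel_nth 9 (by decide)
  have e : es[9] = (List.replicate 3 i_c ++ [], []) := rfl
  rw [e, evG_rep, evG_nil, mul_one] at h
  exact h

theorem c_s1 : c * s1 = s1 * s1 * c := by
  have h := rel_nth 10 (by decide)
  have e : es[10] = ([i_c, i_s1], [i_s1, i_s1, i_c]) := rfl
  rw [e] at h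
  simp only [evG_cons, evG_nil, mul_one] at h
  rw [mul_assoc]
  exact h

theorem yy_pow : yy ^ 3 = 1 := by
  have h := rel_nth 11 (by decide)
  have e : es[11] = (List.replicate 3 i_yy ++ [], []) := rfl
  rw [e, evG_rep, evG_nil, mul_one] at h
  exact h

theorem w_pow : w ^ 3 = 1 := by
  have h := rel_nth 12 (by decide)
  have e : es[12] = (List.replicate 3 i_w ++ [], []) := rfl
  rw [e, evG_rep, evG_nil, mul_one] at h
  exact h

theorem c_w : c * w = w * c := by
  have h := rel_nth 13 (by decide)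
  have e : es[13] = ([i_c, i_w], [i_w, i_c]) := rfl
  rw [e] at h
  simp only [evG_cons, evG_nil, mul_one] at h
  exact h

theorem yy_w : yy * w = w * yy := by
  have h := rel_nth 14 (by decide)
  have e : es[14] = ([i_yy, i_w], [i_w, i_yy]) := rfl
  rw [e] at h
  simp only [evG_cons, evG_nil, mul_one] at h
  exact h

theorem yy_c : yy * c = c * yy * w := by
  have h := rel_nth 15 (by decide)
  have e : es[15] = ([i_yy, i_c], [i_c, i_yy, i_w]) := rfl
  rw [e] at h
  simp only [evG_cons, evG_nil, mul_one] at h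
  rw [mul_assoc]
  exact h

theorem h_pow : h ^ 8 = 1 := by
  have h := rel_nth 16 (by decide)
  have e : es[16] = (List.replicate 8 i_h ++ [], []) := rfl
  rw [e, evG_rep, evG_nil, mul_one] at h
  exact h

theorem h_c : h * c = c * yy * yy * h := by
  have h := rel_nth 17 (by decide)
  have e : es[17] = ([i_h, i_c], [i_c, i_yy, i_yy, i_h]) := rfl
  rw [e] at h
  simp only [evG_cons, evG_nil, mul_one] at h
  simp only [mul_assoc]
  exact h

theorem h_yy : h * yy = c * yy * w * h := by
  have h := rel_nth 18 (by decide)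
  have e : es[18] = ([i_h, i_yy], [i_c, i_yy, i_w, i_h]) := rfl
  rw [e] at h
  simp only [evG_cons, evG_nil, mul_one] at h
  simp only [mul_assoc]
  exact h

theorem h_w : h * w = w * w * h := by
  have h := rel_nth 19 (by decide)
  have e : es[19] = ([i_h, i_w], [i_w, i_w, i_h]) := rfl
  rw [e] at h
  simp only [evG_cons, evG_nil, mul_one] at h
  simp only [mul_assoc]
  exact h

theorem k_sq : k * k = 1 := by
  have h := rel_nth 20 (by decide)
  have e : es[20] = ([i_k, i_k], []) := rfl
  rw [e] at h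
  simp only [evG_cons, evG_nil, mul_one] at h
  exact h

theorem k_h : k * h = h ^ 5 * k := by
  have h := rel_nth 21 (by decide)
  have e : es[21] = ([i_k, i_h], List.replicate 5 i_h ++ [i_k]) := rfl
  rw [e, evG_rep] at h
  simp only [evG_cons, evG_nil, mul_one] at h
  exact h

theorem l_h : l * h = h ^ 7 * k * l := by
  have h := rel_nth 22 (by decide)
  have e : es[22] = ([i_l, i_h], List.replicate 7 i_h ++ [i_k, i_l]) := rfl
  rw [e, evG_rep] at h
  simp only [evG_cons, evG_nil, mul_one] at h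
  rw [mul_assoc]
  exact h

theorem g_cube : g ^ 3 = h ^ 2 := by
  have h := rel_nth 23 (by decide)
  have e : es[23] = (List.replicate 3 i_g ++ [], List.replicate 2 i_h ++ []) := rfl
  rw [e, evG_rep, evG_rep, evG_nil, mul_one, mul_one] at h
  exact h

theorem g_pow : g ^ 12 = 1 := by
  have h := rel_nth 24 (by decide)
  have e : es[24] = (List.replicate 12 i_g ++ [], []) := rfl
  rw [e, evG_rep, evG_nil, mul_one] at h
  exact h

theorem z_c : z * c = c * z := by
  have h := rel_nth 25 (by decide)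
  have e : es[25] = ([i_z, i_c], [i_c, i_z]) := rfl
  rw [e] at h
  simp only [evG_cons, evG_nil, mul_one] at h
  exact h

theorem z_sq : z * z = 1 := by
  have h := rel_nth 26 (by decide)
  have e : es[26] = ([i_z, i_z], []) := rfl
  rw [e] at h
  simp only [evG_cons, evG_nil, mul_one] at h
  exact h

theorem tt_mem : tt ∈ U0 := mem_of_rel (n := 27) (by decide) rfl (by decide)

theorem tt_s1 : tt * s1 = s2 * tt := by
  have h := rel_nth 28 (by decide)
  have e : es[28] = ([i_tt, i_s1], [i_s2, i_tt]) := rfl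
  rw [e] at h
  simp only [evG_cons, evG_nil, mul_one] at h
  exact h

theorem s1_ne : s1 ≠ 1 := by
  have h := nrel_nth 0 (by decide)
  have e : ns[0] = ([i_s1], []) := rfl
  rw [e] at h
  simp only [evG_cons, evG_nil, mul_one] at h
  exact h

theorem s2_ne : s2 ≠ 1 := by
  have h := nrel_nth 1 (by decide)
  have e : ns[1] = ([i_s2], []) := rfl
  rw [e] at h
  simp only [evG_cons, evG_nil, mul_one] at h
  exact h

theorem w_ne : w ≠ 1 := by
  have h := nrel_nth 2 (by decide)
  have e : ns[2] = ([i_w], []) := rfl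
  rw [e] at h
  simp only [evG_cons, evG_nil, mul_one] at h
  exact h

theorem h_ne : h ^ 4 ≠ 1 := by
  have h := nrel_nth 3 (by decide)
  have e : ns[3] = (List.replicate 4 i_h ++ [], []) := rfl
  rw [e, evG_rep, evG_nil, mul_one] at h
  exact h

theorem g_ne : g ^ 4 ≠ 1 := by
  have h := nrel_nth 4 (by decide)
  have e : ns[4] = (List.replicate 4 i_g ++ [], []) := rfl
  rw [e, evG_rep, evG_nil, mul_one] at h
  exact h

theorem w_s1 : w * s1 ≠ s1 * w := by
  have h := nrel_nth 5 (by decide)
  have e : ns[5] = ([i_w, i_s1], [i_s1, i_w]) := rfl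
  rw [e] at h
  simp only [evG_cons, evG_nil, mul_one] at h
  exact h

/-! ### The elements commuting with `c` -/

theorem ui_c {i : ℕ} (hi : i ∈ ui) : getG LX i * c = c * getG LX i := by
  have h := relU.1 ([i, i_c], [i_c, i]) (by
    unfold esU
    exact List.mem_append_left _ (List.mem_map.2 ⟨i, hi, rfl⟩))
  simp only [evG_cons, evG_nil, mul_one] at h
  exact h

theorem ui_sq {i : ℕ} (hi : i ∈ ui) : getG LX i * getG LX i = 1 := by
  have h := relU.1 ([i, i], []) (by
    unfold esU
    exact List.mem_append_right _ (List.mem_map.2 ⟨i, hi, rfl⟩))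
  simp only [evG_cons, evG_nil, mul_one] at h
  exact h

theorem qi_c {p : ℕ × ℕ} (hp : p ∈ qi) : getG LX p.1 * c = c * getG LX p.1 := by
  have h := relU.2 ([p.1, i_c], [i_c, p.1]) (by
    unfold esQ
    exact List.mem_append_left _ (List.mem_map.2 ⟨p, hp, rfl⟩))
  simp only [evG_cons, evG_nil, mul_one] at h
  exact h

theorem qi_inv {p : ℕ × ℕ} (hp : p ∈ qi) : getG LX p.2 = (getG LX p.1)⁻¹ := by
  have h := relU.2 ([p.1, p.2], []) (by
    unfold esQ
    exact List.mem_append_right _ (List.mem_map.2 ⟨p, hp, rfl⟩))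
  simp only [evG_cons, evG_nil, mul_one] at h
  exact (inv_eq_of_mul_eq_one_right h).symm

/-! ### The fixed vectors -/

/-- the matrix with the rows of the basis -/
noncomputable abbrev BB : Matrix (Fin 112) (Fin 112) (ZMod 2) := toMat 112 Bm

theorem cert : (mat h + 1) * toMat 112 X1 + (mat l + 1) * toMat 112 X2 + toMat 112 Cm * BB = 1 ∧
    act (toVec 112 v1) s1 = toVec 112 v1 ∧ act (toVec 112 v1) s2 = toVec 112 v1 ∧
    act (toVec 112 v1) (Cfsg.Agent.J4.Rep112.y) ≠ toVec 112 v1 := by
  obtain ⟨L', h', hk⟩ := run_codes check_V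
  obtain ⟨h1, hk2⟩ := cond_true_of hk
  obtain ⟨h2, hk3⟩ := cond_true_of hk2
  rcases hy : Nat.beq (F2Mat.vmul 112 v1 Cfsg.Agent.J4.RepData.Y) v1 with _ | _
  swap
  · rw [hy] at hk3
    exact absurd hk3 Bool.false_ne_true
  rw [hy] at hk3
  have hk3' : Nat.beq (Nat.xor (Nat.xor (F2Mat.mul 112 (Nat.xor (get (F2Mat.one 112) L' i_h) (F2Mat.one 112)) X1)
    (F2Mat.mul 112 (Nat.xor (get (F2Mat.one 112) L' i_l) (F2Mat.one 112)) X2)) (F2Mat.mul 112 Cm Bm))
    (F2Mat.one 112) = true := hk3
  refine ⟨?_, ?_, ?_, ?_⟩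
  · have e := congrArg (toMat 112) (Nat.eq_of_beq_eq_true hk3')
    change toMat 112 ((F2Mat.mul 112 (get (F2Mat.one 112) L' i_h ^^^ F2Mat.one 112) X1 ^^^
      F2Mat.mul 112 (get (F2Mat.one 112) L' i_l ^^^ F2Mat.one 112) X2) ^^^ F2Mat.mul 112 Cm Bm) = _ at e
    rw [toMat_xor, toMat_xor, toMat_mul, toMat_mul, toMat_mul, toMat_xor, toMat_xor, toMat_one,
      ← mat_getG h', ← mat_getG h'] at e
    exact e
  · unfold act s1
    rw [mat_getG h', ← toVec_vmul, Nat.eq_of_beq_eq_true h1]
  · unfold act s2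
    rw [mat_getG h', ← toVec_vmul, Nat.eq_of_beq_eq_true h2]
  · intro h0
    have h3 : mat Cfsg.Agent.J4.Rep112.y = toMat 112 Cfsg.Agent.J4.RepData.Y := by
      have h4 := codes_get codes_gens 1
      rw [getG_map] at h4
      exact h4
    unfold act at h0
    rw [h3, ← toVec_vmul] at h0
    have h6 := toVec_inj (vmul_lt v1 _) (by norm_num [v1]) h0
    rw [h6, Nat.beq_refl] at hy
    exact absurd hy (by decide)

/-- coordinates -/
noncomputable def cv (m : Vec) : Vec := Matrix.vecMul m (toMat 112 Cm)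

theorem cv_supp (m : Vec) : ∀ j : Fin 112, 7 ≤ j.val → cv m j = 0 := by
  intro j hj
  show ∑ i, m i * toMat 112 Cm i j = 0
  apply Finset.sum_eq_zero
  intro i _
  rw [toMat_apply, check_C i.val i.2 j.val j.2 hj]
  show m i * 0 = 0
  rw [mul_zero]

/-- the fixed vectors of `h` and `l` are the combinations of the rows of `BB` -/
theorem eq_cv {m : Vec} (hh : act m h = m) (hl : act m l = m) : m = Matrix.vecMul (cv m) BB := by
  have e := congrArg (Matrix.vecMul m) cert.1
  have h2 : ∀ x : Vec, x + x = 0 := fun x => by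
    funext i
    exact CharTwo.add_self_eq_zero _
  have h3 : Matrix.vecMul m (mat h + 1) = 0 := by
    rw [Matrix.vecMul_add, Matrix.vecMul_one]
    unfold act at hh
    rw [hh, h2]
  have h4 : Matrix.vecMul m (mat l + 1) = 0 := by
    rw [Matrix.vecMul_add, Matrix.vecMul_one]
    unfold act at hl
    rw [hl, h2]
  rw [Matrix.vecMul_add, Matrix.vecMul_add, ← Matrix.vecMul_vecMul, ← Matrix.vecMul_vecMul,
    ← Matrix.vecMul_vecMul, h3, h4, Matrix.zero_vecMul, Matrix.zero_vecMul, zero_add, zero_add,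
    Matrix.vecMul_one] at e
  exact e.symm

theorem tU_sound {X X' U : ℕ} (hT : tU X X' U = true) {v : Vec} (hv : ∀ j : Fin 112, 7 ≤ j.val → v j = 0)
    (h1 : Matrix.vecMul (Matrix.vecMul v (toMat 112 X)) (toMat 112 U) = Matrix.vecMul v (toMat 112 X))
    (h2 : Matrix.vecMul (Matrix.vecMul v (toMat 112 X')) (toMat 112 U) = Matrix.vecMul v (toMat 112 X')) :
    v = 0 := by
  have h3 : ∀ x : Vec, x + x = 0 := fun x => by
    funext i
    exact CharTwo.add_self_eq_zero _
  apply tU_vec hT hv
  rw [toMat_xor, toMat_mul, Matrix.vecMul_add, ← Matrix.vecMul_vecMul, h2, h3]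

/-- the list of the involutions commuting with `c` -/
noncomputable def InvL : List Cfsg.Spor.J4 :=
  z :: qi.flatMap (fun p => ui.map (fun i => getG LX p.2 * getG LX i * getG LX p.1))

theorem InvL_length : InvL.length = 2311 := by
  unfold InvL
  rw [List.length_cons, List.length_flatMap]
  simp only [List.length_map]
  decide

attribute [local irreducible] qi ui

/-- the test, in the group -/
theorem enum_key {v : Cfsg.Spor.J4} (hv : v ∈ InvL) {m : Vec} (hh : act m h = m) (hl : act m l = m)
    (h1 : act m v = m) (h2 : act (act m s2) v = act m s2) : m = 0 := by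
  obtain ⟨L', h', hk⟩ := run_codes check_E
  unfold chkE at hk
  simp only [force_eq] at hk
  obtain ⟨hz, hq⟩ := cond_true_of hk
  have hBs : toMat 112 (F2Mat.mul 112 Bm (get (F2Mat.one 112) L' i_s2)) = BB * mat s2 := by
    rw [toMat_mul, ← mat_getG h' i_s2]
    rfl
  have em := eq_cv hh hl
  have em2 : act m s2 = Matrix.vecMul (cv m) (BB * mat s2) := by
    rw [← Matrix.vecMul_vecMul, ← em]
    rfl
  suffices hc : cv m = 0 by
    rw [em, hc, Matrix.zero_vecMul]
  unfold InvL at hv
  rw [List.mem_cons] at hv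
  rcases hv with hvz | hv
  · rw [hvz] at h1 h2
    apply tU_sound hz (cv_supp m)
    · exact (congrArg₂ Matrix.vecMul em.symm (mat_getG h' i_z).symm).trans (Eq.trans h1 em)
    · rw [hBs]
      exact (congrArg₂ Matrix.vecMul em2.symm (mat_getG h' i_z).symm).trans (Eq.trans h2 em2)
  · obtain ⟨p, hp, hv⟩ := List.mem_flatMap.1 hv
    obtain ⟨i, hi, rfl⟩ := List.mem_map.1 hv
    have h3 := allL_sound (allL_sound hq p hp) i hi
    have hinv : ∀ m : Vec, act m (getG LX p.2 * getG LX i * getG LX p.1) = m →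
        act (act m (getG LX p.2)) (getG LX i) = act m (getG LX p.2) := by
      intro m hm
      have h4 := congrArg (fun x => act x (getG LX p.2)) hm
      simp only [act_mul] at h4
      rw [qi_inv hp] at h4
      rw [qi_inv hp]
      rwa [act_inv_cancel] at h4
    apply tU_sound h3 (cv_supp m)
    · rw [toMat_mul, ← mat_getG h' p.2, ← mat_getG h' i, ← Matrix.vecMul_vecMul, ← em]
      exact hinv m h1
    · rw [toMat_mul, ← mat_getG h' p.2, ← mat_getG h' i, hBs, ← Matrix.vecMul_vecMul, ← em2]
      exact hinv _ h2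

theorem InvL_nodup : InvL.Nodup := by
  obtain ⟨L', h', hk⟩ := run_codes check_K
  have h1 := nodup_of_uniq hk
  have h2 : InvL.map (fun v => act (toVec 112 r0) v) = (keys L').map (toVec 112) := by
    unfold InvL keys
    rw [List.map_cons, List.map_cons, List.map_flatMap, List.map_flatMap]
    refine congrArg₂ List.cons ?_ ?_
    · unfold act z
      rw [mat_getG h' i_z, ← toVec_vmul]
    · refine congrArg (fun f => List.flatMap f qi) ?_
      funext p
      rw [List.map_map, List.map_map]
      refine congrArg (fun f => List.map f ui) ?_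
      funext i
      show act (toVec 112 r0) (getG LX p.2 * getG LX i * getG LX p.1) = toVec 112 _
      rw [act_mul, act_mul]
      unfold act
      rw [mat_getG h' p.2, mat_getG h' i, mat_getG h' p.1, ← toVec_vmul, ← toVec_vmul, ← toVec_vmul]
  have h3 : ((keys L').map (toVec 112)).Nodup := by
    apply List.Nodup.map_on _ h1
    have hlt : ∀ a ∈ keys L', a < 2 ^ 112 := by
      intro a ha
      unfold keys at ha
      rcases List.mem_cons.1 ha with rfl | ha
      · exact vmul_lt _ _
      · obtain ⟨p, -, ha⟩ := List.mem_flatMap.1 ha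
        obtain ⟨i, -, rfl⟩ := List.mem_map.1 ha
        exact vmul_lt _ _
    intro a ha b hb hab
    exact toVec_inj (hlt a ha) (hlt b hb) hab
  rw [← h2] at h3
  exact List.Nodup.of_map _ h3

theorem v1_ne : toVec 112 v1 ≠ 0 := by
  intro h2
  have h3 : toVec 112 v1 = toVec 112 0 := by
    rw [h2]
    funext j
    simp [toVec, bz]
  have h4 := toVec_inj (by norm_num [v1]) (by norm_num) h3
  exact absurd h4 (by norm_num [v1])

theorem fix_v1 (g : Cfsg.Spor.J4) (hg : g ∈ U0) : act (toVec 112 v1) g = toVec 112 v1 := by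
  induction hg using Subgroup.closure_induction with
  | mem x hx =>
    rcases hx with rfl | rfl
    · exact cert.2.1
    · exact cert.2.2.1
  | one => exact act_one _
  | mul a b _ _ ha hb => rw [act_mul, ha, hb]
  | inv a _ ha =>
    conv_lhs => rw [← ha]
    rw [act_inv_cancel]

theorem InvL_ne {v : Cfsg.Spor.J4} (hv : v ∈ InvL) : v ≠ 1 := fun h0 =>
  v1_ne (enum_key hv (fix_v1 h h_mem) (fix_v1 l l_mem) (by rw [h0, act_one]) (by rw [h0, act_one]))

theorem conj_sq {p v : Cfsg.Spor.J4} (hv : v * v = 1) : (p⁻¹ * v * p) * (p⁻¹ * v * p) = 1 := by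
  calc (p⁻¹ * v * p) * (p⁻¹ * v * p) = p⁻¹ * (v * v) * p := by group
    _ = 1 := by rw [hv]; group

theorem conj_comm {p v x : Cfsg.Spor.J4} (hp : p * x = x * p) (hv : v * x = x * v) :
    p⁻¹ * v * p * x = x * (p⁻¹ * v * p) := by
  have h1 : Commute p x := hp
  have h2 : Commute v x := hv
  exact ((h1.inv_left.mul_left h2).mul_left h1).eq

theorem InvL_spec {v : Cfsg.Spor.J4} (hv : v ∈ InvL) : v * v = 1 ∧ v ≠ 1 ∧ v * c = c * v := by
  refine ⟨?_, InvL_ne hv, ?_⟩
  · unfold InvL at hv
    rcases List.mem_cons.1 hv with hv | hv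
    · rw [hv]
      exact z_sq
    · obtain ⟨p, hp, hv⟩ := List.mem_flatMap.1 hv
      obtain ⟨i, hi, hv⟩ := List.mem_map.1 hv
      rw [← hv, qi_inv hp]
      exact conj_sq (ui_sq hi)
  · unfold InvL at hv
    rcases List.mem_cons.1 hv with hv | hv
    · rw [hv]
      exact z_c
    · obtain ⟨p, hp, hv⟩ := List.mem_flatMap.1 hv
      obtain ⟨i, hi, hv⟩ := List.mem_map.1 hv
      rw [← hv, qi_inv hp]
      exact conj_comm (qi_c hp) (ui_c hi)

end Cfsg.Agent.H865.U3Run

private theorem dce_ae9fdf0aa4f3 : _root_.True := by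
  try have : _root_.True := by simp only [_root_.Cfsg.Agent.H865.U3Data.v1.eq_1]
  try have : _root_.True := by simp only [_root_.Cfsg.Agent.Lib.F2Mat.toVec.eq_1]
  exact _root_.True.intro
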